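import Cfsg.Agent.PrimeDeg7.Modular
import Cfsg.Agent.S4701
import Cfsg.Agent.S4706
import Cfsg.Agent.S0494
import Cfsg.Agent.S0253
import Cfsg.Agent.Lib.LinearGroup.Card

/-!
The identification of the groups.
-/

set_option autoImplicit false
set_option linter.unusedSectionVars false

namespace Cfsg.Agent.PrimeDeg7

open MulAction Matrix

variable {α : Type*} [Fintype α] [DecidableEq α] {p : ℕ} [hp : Fact p.Prime]
  {G : Subgroup (Equiv.Perm α)} [IsPretransitive G α] (D : Data p G)

namespace Data

theorem card_normalizer_sylow :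
    Nat.card (Subgroup.normalizer ((D.sylow : Subgroup G) : Set G)) = Nat.card D.E * p := by
  have hEN : ∀ x : D.E, (x : G) ∈ Subgroup.normalizer ((Subgroup.zpowers D.u : Subgroup G) : Set G) := by
    intro x
    rw [Subgroup.mem_normalizer_iff]
    have hle : ∀ (y : D.E) (z : G), z ∈ Subgroup.zpowers D.u →
        (y : G) * z * (y : G)⁻¹ ∈ Subgroup.zpowers D.u := by
      intro y z hz
      obtain ⟨n, rfl⟩ := (isOfFinOrder_of_finite D.u).mem_powers_iff_mem_zpowers.mpr hz
      rw [show (y : G) * (fun m => D.u ^ m) n * (y : G)⁻¹ = _ from D.conj_pow y n]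
      exact pow_mem (Subgroup.mem_zpowers _) _
    refine fun z => ⟨hle x z, fun h => ?_⟩
    have := hle x⁻¹ _ h
    simpa [mul_assoc] using this
  let f : D.E × Fin p → Subgroup.normalizer ((D.sylow : Subgroup G) : Set G) := fun q =>
    ⟨(q.1 : G) * D.u ^ (q.2 : ℕ),
      mul_mem (hEN q.1) (pow_mem (Subgroup.le_normalizer (Subgroup.mem_zpowers _)) _)⟩
  have hf : Function.Bijective f := by
    constructor
    · rintro ⟨x, i⟩ ⟨y, j⟩ h
      have h' : (x : G) * D.u ^ (i : ℕ) = (y : G) * D.u ^ (j : ℕ) := congrArg Subtype.val h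
      have e0 := congrArg (fun g : G => g • D.pt 0) h'
      have e1 := congrArg (fun g : G => g • D.pt 1) h'
      simp only [mul_smul, D.pow_smul, D.E_smul, D.pt.injective.eq_iff, zero_add] at e0 e1
      have hs : (D.s x : ZMod p) = D.s y := by linear_combination e1 - e0
      obtain rfl : x = y := D.s_inj (Units.ext hs)
      have hij : ((i : ℕ) : ZMod p) = (j : ℕ) := mul_left_cancel₀ (Units.ne_zero _) e0
      rw [ZMod.natCast_eq_natCast_iff', Nat.mod_eq_of_lt i.2, Nat.mod_eq_of_lt j.2] at hij
      rw [Fin.ext hij]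
    · rintro ⟨g, hg⟩
      obtain ⟨x, i, rfl⟩ := D.decomp g hg
      refine ⟨(x, ⟨i % p, Nat.mod_lt _ hp.out.pos⟩), Subtype.ext ?_⟩
      show (x : G) * D.u ^ (i % p) = (x : G) * D.u ^ i
      rw [D.pow_eq_pow (ZMod.natCast_mod i p)]
  rw [← Nat.card_congr (Equiv.ofBijective f hf), Nat.card_prod, Nat.card_fin]

include D in
theorem not_normal_sylow (P : Sylow p G) : ¬ (P : Subgroup G).Normal := by
  intro hn
  have := D.isSimple
  rcases hn.eq_bot_or_eq_top with h | h
  · have := P.card_eq_multiplicity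
    rw [h, Subgroup.card_bot] at this
    have h1 : 1 ≤ (Nat.card G).factorization p :=
      (hp.out.dvd_iff_one_le_factorization Nat.card_pos.ne').mp
        (Perm.PrimeDeg.prime_dvd_card (G := G) D.hα)
    have := Nat.one_lt_pow (Nat.one_le_iff_ne_zero.mp h1) hp.out.one_lt
    omega
  · have h1 := Perm.PrimeDeg.card_sylow D.hα P
    rw [h, Subgroup.card_top] at h1
    have h2 := Subgroup.card_subgroup_dvd_card D.E
    rw [h1] at h2
    have h3 := Nat.le_of_dvd (by have := D.five_le; omega) D.card_E_dvd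
    have := D.two_le
    rcases (Nat.dvd_prime hp.out).mp h2 with h4 | h4
    · omega
    · have := D.five_le; omega

open LinearGroup in
include D in
theorem main : (p = 5 ∨ p = 7 ∨ p = 11) ∧ ∃ (F : Type) (_ : Field F) (_ : Fintype F),
    Fintype.card F = p ∧ Nonempty (G ≃* Matrix.ProjectiveSpecialLinearGroup (Fin 2) F) := by
  have := D.isSimple
  have h5 := D.five_le
  have hG := D.card_G
  by_cases he : Nat.card D.E = 2
  · -- the complement has order two
    obtain h | ⟨a, F, _, _, hpa, hF, ⟨φ⟩⟩ := S4706.result (p := p) (by omega) D.hα G D.sylow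
      (by rw [D.card_normalizer_sylow, he])
    · exact absurd h (D.not_normal_sylow _)
    obtain ⟨y, hy⟩ := D.exists_E_gen
    have hord : orderOf y = 2 := by
      rw [← he]
      exact orderOf_eq_card_of_forall_mem_zpowers fun x => by
        obtain ⟨n, rfl⟩ := hy x
        exact pow_mem (Subgroup.mem_zpowers y) n
    have hy1 : y ≠ 1 := fun h => by rw [h, orderOf_one] at hord; omega
    have hyy : y * y = 1 := by rw [← pow_two, ← hord, pow_orderOf_eq_one]
    have : CharP F 2 := by
      have ha : a ≠ 0 := fun h => by rw [h] at hpa; omega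
      obtain ⟨q, hq⟩ := CharP.exists F
      obtain ⟨n, hqp, hn⟩ := FiniteField.card F q
      rw [hF] at hn
      have : q = 2 := (Nat.prime_dvd_prime_iff_eq hqp Nat.prime_two).mp
        (hqp.dvd_of_dvd_pow (hn ▸ dvd_pow_self q n.ne_zero : q ∣ 2 ^ a))
      exact this ▸ hq
    have hle := card_le_centralizer_sl_two (φ (y : G))
      (by rw [← map_mul, ← Subgroup.coe_mul, hyy]; simp)
      (fun h => hy1 (Subtype.ext (φ.injective (h.trans (map_one φ).symm))))
    have hC : Nat.card (Subgroup.centralizer ({φ (y : G)} : Set (SpecialLinearGroup (Fin 2) F))) ≤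
        2 * Nat.card D.E := by
      rw [← D.card_norm]
      refine Nat.card_le_card_of_injective (fun g => ⟨φ.symm g.1, ?_⟩) fun a b h => ?_
      · have hc : φ (y : G) * g.1 = g.1 * φ (y : G) :=
          Subgroup.mem_centralizer_iff.mp g.2 _ rfl
        refine D.ti (y : G) y.2 (fun h => hy1 (Subtype.ext h)) _ ?_
        have e : φ.symm g.1 * (y : G) * (φ.symm g.1)⁻¹ = (y : G) := by
          apply φ.injective
          rw [map_mul, map_mul, map_inv, MulEquiv.apply_symm_apply, ← hc, mul_inv_cancel_right]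
        rw [e]; exact y.2
      · exact Subtype.ext (φ.symm.injective (congrArg Subtype.val h))
    rw [Nat.card_eq_fintype_card, hF] at hle
    have h4 : 2 ^ a ≤ 2 ^ 2 := by rw [he] at hC; omega
    have hp5 : p = 5 := by omega
    have hq : 2 ^ a = 4 := by omega
    have h60 : Nat.card G = 60 := by
      rw [Nat.card_congr φ.toEquiv, card_SL_two, Nat.card_eq_fintype_card, hF, hq]
      decide
    have : Fact (Nat.Prime 5) := ⟨by norm_num⟩
    obtain ⟨ψ⟩ := S0494.result (G := G) h60
    obtain ⟨χ⟩ := S0253.result (F := ZMod 5) (ZMod.card 5)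
    exact ⟨Or.inl hp5, ZMod 5, inferInstance, inferInstance, by rw [ZMod.card, hp5],
      ⟨ψ.trans χ.symm⟩⟩
  -- the complement has order at least three
  have he3 : 3 ≤ Nat.card D.E := by have := D.two_le; omega
  have hlist := D.stab_list he3
  obtain ⟨n, hn, hn1⟩ := Perm.PrimeDeg.exists_card_eq_mul (G := G) D.sylow
  rw [D.card_normalizer_sylow, hG] at hn
  have hhn : Nat.card (stabilizer G D.a) = n * Nat.card D.E := by
    refine Nat.eq_of_mul_eq_mul_left hp.out.pos ?_
    rw [hn]; ring
  have hed := D.card_E_dvd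
  obtain ⟨hp', hh⟩ : ((p = 5 ∧ Nat.card (stabilizer G D.a) = 24) ∨
      (p = 11 ∧ Nat.card (stabilizer G D.a) = 60) ∨ (p = 7 ∧ Nat.card (stabilizer G D.a) = 24) ∨
      (p = 19 ∧ Nat.card (stabilizer G D.a) = 60)) ∧ Nat.card (stabilizer G D.a) < p * p := by
    have hprime := hp.out
    have hdiv : ∀ m, n = m + 1 → p ∣ m := fun m hm => by
      have := Nat.div_add_mod n p
      exact ⟨n / p, by omega⟩
    rcases hlist with h | ⟨he', h⟩ | ⟨he', h⟩ | ⟨he', h⟩
    · exfalso
      have : n = 2 := Nat.eq_of_mul_eq_mul_right (show 0 < Nat.card D.E by omega)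
        (by rw [← hhn, h])
      subst this
      rw [Nat.mod_eq_of_lt (by omega)] at hn1
      omega
    · rw [he'] at hhn hed
      rcases h with h | h | h
      · exfalso
        have := Nat.le_of_dvd (by norm_num) (hdiv 3 (by omega))
        omega
      · have hd := hdiv 7 (by omega)
        have : p = 7 := (Nat.prime_dvd_prime_iff_eq hprime (by norm_num)).mp hd
        subst this; omega
      · have hd := hdiv 19 (by omega)
        have : p = 19 := (Nat.prime_dvd_prime_iff_eq hprime (by norm_num)).mp hd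
        subst this; omega
    · rw [he'] at hhn
      have hd := hdiv 5 (by omega)
      have : p = 5 := (Nat.prime_dvd_prime_iff_eq hprime (by norm_num)).mp hd
      subst this; omega
    · rw [he'] at hhn
      have hd := hdiv 11 (by omega)
      have : p = 11 := (Nat.prime_dvd_prime_iff_eq hprime (by norm_num)).mp hd
      subst this; omega
  have hbig : Nat.card G < p ^ 3 := by
    rw [hG, pow_succ', pow_two]; exact Nat.mul_lt_mul_of_pos_left hh hp.out.pos
  have hres := S4701.result (G := G) D.perfect p (Perm.PrimeDeg.prime_dvd_card (G := G) D.hα)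
    hbig D.sylow (D.not_normal_sylow _) (fun N hN h2 => by
      rcases hN.eq_bot_or_eq_top with h | h
      · rw [h, Subgroup.card_bot] at h2; omega
      · rw [h, Subgroup.card_top] at h2
        have := Nat.le_of_dvd (by omega) (h2 ▸ Perm.PrimeDeg.prime_dvd_card (G := G) D.hα)
        omega)
  rcases hres with ⟨F, i1, i2, hF, -, ⟨φ⟩⟩ | ⟨m, F, i1, i2, hF, hpm, -, ⟨φ⟩⟩
  · refine ⟨?_, F, i1, i2, hF, ⟨φ⟩⟩
    have h := gcd_mul_card_PSL_two (F := F)
    rw [← Nat.card_congr φ.toEquiv, Nat.card_eq_fintype_card (α := F), hF, hG] at h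
    rcases hp' with ⟨rfl, h'⟩ | ⟨rfl, h'⟩ | ⟨rfl, h'⟩ | ⟨rfl, h'⟩
    · exact Or.inl rfl
    · exact Or.inr (Or.inr rfl)
    · exact Or.inr (Or.inl rfl)
    · rw [h'] at h; norm_num at h
  · exfalso
    have h := Nat.card_congr φ.toEquiv
    rw [card_SL_two, Nat.card_eq_fintype_card (α := F), hF, hG] at h
    rcases hp' with ⟨rfl, h'⟩ | ⟨rfl, h'⟩ | ⟨rfl, h'⟩ | ⟨rfl, h'⟩
    all_goals
      have hm : m < 5 := by
        by_contra hc
        have := Nat.pow_le_pow_right (show 0 < 2 by norm_num) (show 5 ≤ m by omega)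
        omega
      rw [h'] at h
      interval_cases m <;> omega

end Data

end Cfsg.Agent.PrimeDeg7
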