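import Cfsg.Agent.PrimeDeg7.Setup
import Cfsg.Agent.CharDeep.Ext.DetChar
import Cfsg.Agent.Lib.CharInd.DefectZero
import Cfsg.Agent.Lib.CharInd.Char
import Cfsg.Agent.Lib.CharCore.Virtual
import Cfsg.Agent.Lib.Perm.PermModule

/-!
The character of degree `p`, simplicity, and the character of degree `p + 1`.
-/

set_option autoImplicit false
set_option linter.unusedSectionVars false

namespace Cfsg.Agent.PrimeDeg7

open MulAction
open scoped ComplexConjugate

theorem trace_permRep (K : Type*) [Field K] {Γ Ω : Type*} [Group Γ] [Fintype Ω] [DecidableEq Ω]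
    [MulAction Γ Ω] (g : Γ) : LinearMap.trace K (Ω → K) (Cfsg.permRep K Γ Ω g) =
      ((Finset.univ.filter fun i : Ω => g • i = i).card : K) := by
  rw [LinearMap.trace_eq_matrix_trace K (Pi.basisFun K Ω), Matrix.trace]
  simp only [Matrix.diag_apply, LinearMap.toMatrix_apply, Pi.basisFun_repr, Pi.basisFun_apply,
    Perm.permRep_single, Pi.single_apply]
  simp only [eq_comm (b := g • (_ : Ω))]
  rw [Finset.sum_boole]

variable {α : Type*} [Fintype α] [DecidableEq α] {p : ℕ} [hp : Fact p.Prime]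
  {G : Subgroup (Equiv.Perm α)} [IsPretransitive G α] (D : Data p G)

namespace Data

/-- The number of fixed points. -/
theorem fix_card (g : G) (x : D.E) (hx : x ≠ 1) (hg : g = (x : G)) :
    (Finset.univ.filter fun i : α => g • i = i).card = 1 := by
  rw [Finset.card_eq_one]
  refine ⟨D.a, Finset.ext fun i => ?_⟩
  obtain ⟨j, rfl⟩ := D.pt.surjective i
  simp only [Finset.mem_filter, Finset.mem_univ, true_and, Finset.mem_singleton, hg, D.fix_iff hx,
    Data.a, D.pt.injective.eq_iff]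

include D in
theorem fix_card_one : (Finset.univ.filter fun i : α => (1 : G) • i = i).card = p := by
  simp only [one_smul, Finset.filter_true, Finset.card_univ, D.hα]

theorem fix_card_inv (g : G) : (Finset.univ.filter fun i : α => g⁻¹ • i = i).card =
    (Finset.univ.filter fun i : α => g • i = i).card := by
  congr 1
  ext i
  simp only [Finset.mem_filter, Finset.mem_univ, true_and, inv_smul_eq_iff]
  exact eq_comm

/-- The irreducible character of degree `p`. -/
noncomputable def chi : Cfsg.IrrCharacter G := D.uniq.exists.choose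

theorem chi_one : (D.chi : G → ℂ) 1 = (p : ℂ) := by
  have h : Cfsg.charDegree (D.chi : G → ℂ) = p := D.uniq.exists.choose_spec
  obtain ⟨n, -, hn⟩ := CharCore.IsIrrCharacter.exists_degree D.chi.2
  rw [hn]
  rw [Cfsg.charDegree, hn] at h
  simp at h
  exact_mod_cast h

theorem eq_chi {φ : G → ℂ} (hφ : Cfsg.IsIrrCharacter G φ) (h1 : φ 1 = (p : ℂ)) :
    φ = (D.chi : G → ℂ) := by
  have : (⟨φ, hφ⟩ : Cfsg.IrrCharacter G) = D.chi := D.uniq.unique
    (by show Cfsg.charDegree φ = p; rw [Cfsg.charDegree, h1]; simp) D.uniq.exists.choose_spec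
  exact congrArg Subtype.val this

theorem chi_inv (g : G) : (D.chi : G → ℂ) g⁻¹ = (D.chi : G → ℂ) g := by
  have h := D.eq_chi (CharCore.isIrrCharacter_star D.chi.2) (by rw [D.chi_one]; simp)
  rw [CharCore.irr_apply_inv]
  exact congrFun h g

theorem chi_singular {g : G} (h : p ∣ orderOf g) : (D.chi : G → ℂ) g = 0 := by
  have := Fintype.ofFinite G
  refine CharInd.char_eq_zero_of_defect_zero D.chi.2 p 1 1 (r := Nat.card (stabilizer G D.a)) ?_
    D.not_dvd_stab (by rw [D.chi_one, pow_one, mul_one]) g h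
  rw [pow_one, D.card_G]

theorem E_commutative : Std.Commutative (fun a b : D.E => a * b) := ⟨D.E_comm⟩

/-- On the complement the character of degree `p` is linear away from `1`. -/
theorem exists_lam : ∃ l : D.E →* ℂˣ, ∀ x : D.E, x ≠ 1 → (D.chi : G → ℂ) (x : G) = l x := by
  classical
  obtain ⟨n, ρ, -, hρ⟩ := D.chi.2
  have hρ' : ∀ g, LinearMap.trace ℂ _ (ρ g) = (D.chi : G → ℂ) g := fun g => congrFun hρ g
  set Q : (Fin n → ℂ) →ₗ[ℂ] (Fin n → ℂ) :=
    (p : ℂ)⁻¹ • ∑ i : ZMod p, ρ (D.u ^ i.val) with hQ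
  have hp0 : (p : ℂ) ≠ 0 := Nat.cast_ne_zero.mpr hp.out.ne_zero
  have hshift : ∀ j : ℕ, ∑ i : ZMod p, ρ (D.u ^ (j + i.val)) = ∑ i : ZMod p, ρ (D.u ^ i.val) := by
    intro j
    refine Fintype.sum_equiv (Equiv.addLeft (j : ZMod p)) _ _ fun i => ?_
    congr 1
    apply D.pow_eq_pow
    simp
  have huQ : ∀ j : ℕ, ρ (D.u ^ j) * Q = Q := fun j => by
    rw [hQ, mul_smul_comm, Finset.mul_sum]
    simp only [← map_mul, ← pow_add]
    rw [hshift]
  have hQQ : Q * Q = Q := by
    conv_lhs => arg 1; rw [hQ]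
    rw [smul_mul_assoc, Finset.sum_mul, Finset.sum_congr rfl fun i _ => huQ i.val,
      Finset.sum_const, Finset.card_univ, ZMod.card, ← Nat.cast_smul_eq_nsmul ℂ, smul_smul,
      inv_mul_cancel₀ hp0, one_smul]
  have hxQ : ∀ x : D.E, ρ (x : G) * Q = Q * ρ (x : G) := fun x => by
    rw [hQ, mul_smul_comm, smul_mul_assoc, Finset.mul_sum, Finset.sum_mul]
    congr 1
    refine Fintype.sum_equiv (Units.mulLeft (D.s x)) _ _ fun i => ?_
    rw [← map_mul, ← map_mul, Units.mulLeft_apply]
    congr 1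
    have h := D.conj_pow x i.val
    rw [ZMod.natCast_zmod_val, mul_inv_eq_iff_eq_mul] at h
    exact h
  have hsing : ∀ i : ZMod p, i ≠ 0 → (D.chi : G → ℂ) (D.u ^ i.val) = 0 := fun i hi => by
    refine D.chi_singular ?_
    rw [Nat.Coprime.orderOf_pow, D.orderOf_u]
    rw [D.orderOf_u]
    exact (Nat.coprime_of_lt_prime
      (fun h => hi ((ZMod.val_eq_zero i).mp h)) (ZMod.val_lt i) hp.out)
  have htrQ : LinearMap.trace ℂ _ Q = 1 := by
    rw [hQ, map_smul, map_sum, Finset.sum_eq_single (0 : ZMod p)]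
    · rw [hρ', ZMod.val_zero, pow_zero, D.chi_one, smul_eq_mul, inv_mul_cancel₀ hp0]
    · intro i _ hi
      rw [hρ', hsing i hi]
    · simp
  have hproj : LinearMap.IsProj (LinearMap.range Q) Q :=
    ⟨fun v => ⟨v, rfl⟩, fun v ⟨w, hw⟩ => by rw [← hw, ← Module.End.mul_apply, hQQ]⟩
  have hrk : Module.finrank ℂ (LinearMap.range Q) = 1 := by
    have := hproj.trace
    rw [htrQ] at this
    exact_mod_cast this.symm
  obtain ⟨⟨v, hvm⟩, hv0, hv⟩ := finrank_eq_one_iff'.mp hrk
  have hv0' : v ≠ 0 := fun e => hv0 (Subtype.ext e)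
  have hmem : ∀ w, Q w ∈ ℂ ∙ v := fun w => by
    obtain ⟨c, hc⟩ := hv ⟨Q w, w, rfl⟩
    exact Submodule.mem_span_singleton.mpr ⟨c, congrArg Subtype.val hc⟩
  have hex : ∀ x : D.E, ∃ c : ℂ, ρ (x : G) v = c • v := fun x => by
    obtain ⟨w, hw⟩ := hvm
    have h := hmem (ρ (x : G) w)
    rw [← Module.End.mul_apply, ← hxQ, Module.End.mul_apply, hw] at h
    obtain ⟨c, hc⟩ := Submodule.mem_span_singleton.mp h
    exact ⟨c, hc.symm⟩
  choose c hc using hex
  let L : D.E →* ℂ :=
    { toFun := c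
      map_one' := by
        refine smul_left_injective ℂ hv0' ?_
        show c 1 • v = (1 : ℂ) • v
        rw [← hc, OneMemClass.coe_one, map_one, Module.End.one_apply, one_smul]
      map_mul' := fun x y => by
        refine smul_left_injective ℂ hv0' ?_
        show c (x * y) • v = (c x * c y) • v
        rw [← hc, Subgroup.coe_mul, map_mul, Module.End.mul_apply, hc y, map_smul, hc x, smul_smul,
          mul_comm (c x)] }
  refine ⟨L.toHomUnits, fun x hx => ?_⟩
  have hxc : ρ (x : G) * Q = c x • Q := LinearMap.ext fun w => by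
    obtain ⟨d, hd⟩ := Submodule.mem_span_singleton.mp (hmem w)
    show ρ (x : G) (Q w) = c x • Q w
    rw [← hd, map_smul, hc, smul_comm]
  have h1 : LinearMap.trace ℂ _ (ρ (x : G) * Q) = c x := by
    rw [hxc, map_smul, htrQ, smul_eq_mul, mul_one]
  show _ = c x
  rw [← h1, hQ, mul_smul_comm, map_smul, Finset.mul_sum, map_sum]
  have hconj : ∀ i : ZMod p, LinearMap.trace ℂ _ (ρ (x : G) * ρ (D.u ^ i.val)) =
      (D.chi : G → ℂ) (x : G) := by
    intro i
    rw [← map_mul, hρ']
    -- `x * u ^ i` is a conjugate of `x`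
    let m : ZMod p := (D.s x : ZMod p) * i / (1 - (D.s x : ZMod p))
    have e : (x : G) * D.u ^ i.val = D.u ^ m.val * (x : G) * (D.u ^ m.val)⁻¹ := by
      rw [eq_mul_inv_iff_mul_eq]
      refine D.eq_of_smul fun j => ?_
      simp only [mul_smul, D.pow_smul, D.E_smul, ZMod.natCast_zmod_val]
      congr 1
      have hne : (1 : ZMod p) - (D.s x : ZMod p) ≠ 0 := sub_ne_zero.mpr (Ne.symm (D.s_ne_one hx))
      simp only [m]
      field_simp
      ring
    rw [e]
    exact CharCore.irr_isClassFunction D.chi _ _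
  rw [Finset.sum_congr rfl fun i _ => hconj i, Finset.sum_const, Finset.card_univ, ZMod.card,
    nsmul_eq_mul, smul_eq_mul, ← mul_assoc, inv_mul_cancel₀ hp0, one_mul]

/-! ### Perfect, simple -/

include D in
theorem perfect : commutator G = ⊤ := by
  classical
  obtain ⟨l, hl⟩ := D.exists_lam
  have htriv : ∀ f : G →* ℂˣ, f = 1 := by
    intro f
    have h := D.eq_chi (CharCore.isIrrCharacter_hom_mul f D.chi.2) (by simp [D.chi_one])
    have hE : D.E ≤ f.ker := fun x hx => by
      by_cases h1 : x = 1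
      · subst h1; exact one_mem _
      have h2 := congrFun h x
      rw [hl ⟨x, hx⟩ (fun e => h1 (congrArg Subtype.val e))] at h2
      rw [MonoidHom.mem_ker]
      apply Units.ext
      exact mul_right_cancel₀ (l ⟨x, hx⟩).ne_zero (by rw [h2, Units.val_one, one_mul])
    have : Nontrivial D.E := Finite.one_lt_card_iff_nontrivial.mp D.two_le
    obtain ⟨x, hx⟩ := exists_ne (1 : D.E)
    have hu : f D.u = 1 := by
      have h3 := congrArg f (D.conj_pow x 1)
      rw [pow_one, map_mul, map_mul, map_inv, MonoidHom.mem_ker.mp (hE x.2), one_mul, inv_one,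
        mul_one, map_pow, Nat.cast_one, mul_one] at h3
      have hd : orderOf (f D.u) ∣ p := by
        have := orderOf_map_dvd f D.u
        rwa [D.orderOf_u] at this
      rcases (Nat.dvd_prime hp.out).mp hd with h4 | h4
      · exact orderOf_eq_one_iff.mp h4
      · exfalso
        have h5 : f D.u ^ 1 = f D.u ^ (D.s x : ZMod p).val := by rw [pow_one]; exact h3
        rw [pow_eq_pow_iff_modEq, h4] at h5
        have h6 : ((1 : ℕ) : ZMod p) = ((D.s x : ZMod p).val : ZMod p) :=
          (ZMod.natCast_eq_natCast_iff _ _ _).mpr h5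
        rw [ZMod.natCast_zmod_val, Nat.cast_one] at h6
        exact D.s_ne_one hx h6.symm
    have hN : Subgroup.normalizer ((D.sylow : Subgroup G) : Set G) ≤ f.ker := fun g hg => by
      obtain ⟨y, i, rfl⟩ := D.decomp g hg
      exact mul_mem (hE y.2) (pow_mem (MonoidHom.mem_ker.mpr hu) i)
    have hPK : (D.sylow : Subgroup G) ≤ f.ker := (Subgroup.zpowers_le.mpr hu)
    have htop : f.ker = ⊤ := by
      have h1 : Subgroup.normalizer ((D.sylow : Subgroup G) : Set G) ⊔ f.ker = ⊤ :=
        Sylow.normalizer_sup_eq_top' D.sylow hPK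
      rwa [sup_eq_right.mpr hN] at h1
    exact MonoidHom.ext fun g => MonoidHom.mem_ker.mp (htop ▸ Subgroup.mem_top g)
  have : Subsingleton (G →* ℂˣ) := ⟨fun a b => (htriv a).trans (htriv b).symm⟩
  have h := CharCore.card_linearCharacters (G := G)
  rw [← Nat.card_congr CharCore.linearEquivHom, Nat.card_of_subsingleton (1 : G →* ℂˣ)] at h
  exact Subgroup.index_eq_one.mp h.symm

include D in
theorem isSimple : IsSimpleGroup G := by
  have : Nontrivial G := by
    refine ⟨⟨D.u, 1, fun h => ?_⟩⟩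
    have := D.orderOf_u
    rw [h, orderOf_one] at this
    exact hp.out.one_lt.ne this
  refine ⟨fun N hN => ?_⟩
  by_cases hNb : N = ⊥
  · exact Or.inl hNb
  right
  have := hN
  have hcardα : Nat.card α = p := Nat.card_eq_fintype_card.trans D.hα
  have : IsPreprimitive G α := IsPreprimitive.of_prime_card (hcardα.symm ▸ hp.out)
  have := Perm.isPretransitive_of_normal_ne_bot (X := α) N hNb
  have : Nonempty α := ⟨D.a⟩
  have hdvd : p ∣ Nat.card N := by
    have := Perm.PrimeDeg.prime_dvd_card (G := G) D.hα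
    have h2 := Perm.card_dvd_card (G := N) (X := α)
    rwa [hcardα] at h2
  obtain ⟨t, ht⟩ := exists_prime_orderOf_dvd_card' p hdvd
  have hto : orderOf (t : G) = p := by rw [Subgroup.orderOf_coe, ht]
  have hPN : (D.sylow : Subgroup G) ≤ N := by
    let Q : Sylow p G := Sylow.ofCard (Subgroup.zpowers (t : G)) (by
      rw [Nat.card_zpowers, hto]
      have h1 := D.sylow.card_eq_multiplicity
      rw [← h1]
      show p = Nat.card (Subgroup.zpowers D.u)
      rw [Nat.card_zpowers, D.orderOf_u])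
    obtain ⟨g, hg⟩ := exists_smul_eq G Q D.sylow
    rw [← hg, Sylow.coe_subgroup_smul]
    intro z hz
    obtain ⟨w, hw, rfl⟩ := Subgroup.mem_map.mp hz
    exact hN.conj_mem w (Subgroup.zpowers_le.mpr t.2 hw) g
  have htop : N ⊔ D.E = ⊤ := by
    have h1 : Subgroup.normalizer ((D.sylow : Subgroup G) : Set G) ⊔ N = ⊤ :=
      Sylow.normalizer_sup_eq_top' D.sylow hPN
    refine top_le_iff.mp (h1 ▸ sup_le (fun g hg => ?_) le_sup_left)
    obtain ⟨y, i, rfl⟩ := D.decomp g hg
    exact mul_mem (Subgroup.mem_sup_right y.2)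
      (Subgroup.mem_sup_left (pow_mem (hPN (Subgroup.mem_zpowers D.u)) i))
  have hle : commutator G ≤ N := by
    have : IsMulCommutative (G ⧸ N) := by
      refine ⟨⟨fun a b => ?_⟩⟩
      have hrep : ∀ c : G ⧸ N, ∃ x : D.E, c = ((x : G) : G ⧸ N) := fun c => by
        obtain ⟨g, rfl⟩ := QuotientGroup.mk_surjective c
        have hg : g ∈ ((N ⊔ D.E : Subgroup G) : Set G) := htop ▸ Subgroup.mem_top g
        rw [Subgroup.normal_mul] at hg
        obtain ⟨m, hm, y, hy, rfl⟩ := hg
        refine ⟨⟨y, hy⟩, ?_⟩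
        rw [QuotientGroup.mk_mul, (QuotientGroup.eq_one_iff m).mpr hm, one_mul]
      obtain ⟨x, rfl⟩ := hrep a
      obtain ⟨y, rfl⟩ := hrep b
      rw [← QuotientGroup.mk_mul, ← QuotientGroup.mk_mul, ← Subgroup.coe_mul, ← Subgroup.coe_mul,
        D.E_comm x y]
    exact Subgroup.Normal.quotient_commutative_iff_commutator_le.mp this
  exact top_le_iff.mp (D.perfect ▸ hle)

/-! ### Determinants -/

include D in
/-- A family of roots of unity with the power sums of a character at `y` has product one. -/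
theorem prod_eq_one (y : G) {φ : G → ℂ} (hφ : Cfsg.IsCharacter G φ) {ι : Type*} [Fintype ι]
    (ω : ι → ℂ) (hω : ∀ i, ω i ^ orderOf y = 1) (h : ∀ m : ℕ, φ (y ^ m) = ∑ i, ω i ^ m) :
    ∏ i, ω i = 1 := by
  obtain ⟨n, ρ, rfl⟩ := hφ
  obtain ⟨b, ν, hν, -, hb, hk⟩ := CharCore.exists_eigenvalues ρ y
  rw [CharDeep.Ext.prod_eq_of_power_sums ω ν (orderOf_pos y) hω hν
    (fun m => (h m).symm.trans (hk m)), ← CharDeep.Ext.det_eq_prod_eigen b ν _ hb]
  let φ : G →* ℂˣ := CharDeep.Ext.detRep ρ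
  have h1 : commutator G ≤ φ.ker := Abelianization.commutator_subset_ker φ
  rw [D.perfect] at h1
  exact congrArg Units.val (show φ y = 1 from h1 (Subgroup.mem_top y))

/-- The character of degree `p` is `1` on the non-identity elements of the complement. -/
theorem chi_E (x : D.E) (hx : x ≠ 1) : (D.chi : G → ℂ) (x : G) = 1 := by
  classical
  obtain ⟨l, hl⟩ := D.exists_lam
  obtain ⟨y, hy⟩ := D.exists_E_gen
  set e := orderOf y with he
  have heC : e = Nat.card D.E := by
    rw [he]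
    exact orderOf_eq_card_of_forall_mem_zpowers fun x => by
      obtain ⟨n, rfl⟩ := hy x
      exact pow_mem (Subgroup.mem_zpowers y) n
  have hyG : orderOf (y : G) = e := Subgroup.orderOf_coe y
  have he0 : 0 < e := orderOf_pos y
  set z := Complex.exp (2 * Real.pi * Complex.I / e) with hz
  have hzp : IsPrimitiveRoot z e := Complex.isPrimitiveRoot_exp e he0.ne'
  have hgeo : ∀ m : ℕ, ∑ j : Fin e, z ^ ((j : ℕ) * m) = if e ∣ m then (e : ℂ) else 0 := by
    intro m
    simp only [mul_comm _ m, pow_mul]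
    rw [Fin.sum_univ_eq_sum_range (fun j => (z ^ m) ^ j)]
    split_ifs with h
    · rw [(hzp.pow_eq_one_iff_dvd m).mpr h]; simp
    · rw [geom_sum_eq (fun hc => h ((hzp.pow_eq_one_iff_dvd m).mp hc)), ← pow_mul, mul_comm m e,
        pow_mul, hzp.pow_eq_one, one_pow, sub_self, zero_div]
  have hke : (D.k : ℂ) * (e : ℂ) + 1 = (p : ℂ) := by
    have := D.k_mul
    have h2 := hp.out.two_le
    rw [← heC] at this
    exact_mod_cast (by omega : D.k * e + 1 = p)
  -- the regular part
  have hfam : ∀ (μ : ℂ), μ ^ e = 1 → ∀ φ : G → ℂ, Cfsg.IsCharacter G φ → φ 1 = (p : ℂ) →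
      (∀ m : ℕ, ¬ e ∣ m → φ ((y : G) ^ m) = μ ^ m) →
      (∏ j : Fin D.k × Fin e, z ^ (j.2 : ℕ)) * μ = 1 := by
    intro μ hμ φ hφ h1 hm
    have hpr := D.prod_eq_one (y : G) hφ
      (Sum.elim (fun j : Fin D.k × Fin e => z ^ (j.2 : ℕ)) fun _ : Unit => μ) (fun i => by
        rw [hyG]
        rcases i with j | _
        · simp only [Sum.elim_inl]
          rw [← pow_mul, mul_comm, pow_mul, hzp.pow_eq_one, one_pow]
        · exact hμ) (fun m => by
        rw [Fintype.sum_sum_type]
        simp only [Sum.elim_inl, Sum.elim_inr, Fintype.sum_prod_type, ← pow_mul, hgeo,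
          Finset.sum_const, Finset.card_univ, Fintype.card_fin, Fintype.card_unit, one_smul,
          nsmul_eq_mul]
        split_ifs with hd
        · obtain ⟨d, rfl⟩ := hd
          rw [pow_mul, pow_mul, hμ, one_pow, ← hyG, pow_orderOf_eq_one, one_pow, h1]
          simpa [hyG] using hke.symm
        · rw [hm m hd, mul_zero, zero_add])
    rw [Fintype.prod_sum_type] at hpr
    simpa only [Sum.elim_inl, Sum.elim_inr, Finset.prod_const, Finset.card_univ, Fintype.card_unit,
      pow_one] using hpr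
  have hne : ∀ m : ℕ, ¬ e ∣ m → y ^ m ≠ 1 := fun m hm hc => hm (orderOf_dvd_of_pow_eq_one hc)
  have hperm := hfam 1 (one_pow e) _
    (CharCore.isCharacter_character (Cfsg.permRep ℂ G α)) (by
      show LinearMap.trace ℂ _ _ = _
      rw [trace_permRep, D.fix_card_one]) (fun m hm => by
      show LinearMap.trace ℂ _ _ = _
      rw [trace_permRep, D.fix_card _ (y ^ m) (hne m hm) (by rw [SubmonoidClass.coe_pow]),
        one_pow, Nat.cast_one])
  rw [mul_one] at hperm
  have hly : (l y : ℂ) ^ e = 1 := by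
    rw [← Units.val_pow_eq_pow_val, ← map_pow, he, pow_orderOf_eq_one, map_one, Units.val_one]
  have hchi := hfam (l y : ℂ) hly _ (CharCore.irr_isCharacter D.chi) D.chi_one (fun m hm => by
    rw [← SubmonoidClass.coe_pow, hl _ (hne m hm), map_pow, Units.val_pow_eq_pow_val])
  rw [hperm, one_mul] at hchi
  obtain ⟨n, rfl⟩ := hy x
  rw [hl _ hx, map_pow, Units.val_pow_eq_pow_val, hchi, one_pow]

/-! ### The character of degree `p + 1` -/

/-- The character of degree `p + 1`. -/
theorem exists_chi_succ (ω : D.E →* ℂˣ) (hω : Function.Injective ω) (he : 3 ≤ Nat.card D.E) :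
    ∃ A : Cfsg.IrrCharacter G, (A : G → ℂ) 1 = (p : ℂ) + 1 ∧
      (∀ x : D.E, x ≠ 1 → (A : G → ℂ) (x : G) = (ω x : ℂ) + ((ω x)⁻¹ : ℂˣ)) ∧
      (∀ g, (A : G → ℂ) g⁻¹ = (A : G → ℂ) g) ∧
      ∀ g ∈ Subgroup.normalizer (D.E : Set G), g ∉ D.E → ∀ x : D.E,
        g⁻¹ * (x : G) * g = (x : G)⁻¹ := by
  classical
  have := Fintype.ofFinite G
  have := Fintype.ofFinite D.E
  set T := Subgroup.normalizer (D.E : Set G) with hT
  have hET : D.E ≤ T := Subgroup.le_normalizer
  let θ : D.E → ℂ := fun x => 1 - (ω x : ℂ)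
  have hθ : Cfsg.IsGeneralizedCharacter D.E θ :=
    ⟨fun _ => 1, fun x => (ω x : ℂ), CharCore.isCharacter_one,
      CharCore.IsIrrCharacter.isCharacter (CharCore.isIrrCharacter_hom ω), rfl⟩
  set Γ := Cfsg.indFun D.E θ with hΓ
  have hΓg : Cfsg.IsGeneralizedCharacter G Γ := CharInd.isGeneralizedCharacter_indFun D.E hθ
  have hθ1 : θ 1 = 0 := by simp [θ]
  have hΓ1 : Γ 1 = 0 := by
    rw [hΓ, CharInd.indFun_apply_one, hθ1]; simp
  -- conjugation by the normaliser
  have hTmem : ∀ {g : G}, g ∈ T → ∀ z : G, z ∈ D.E ↔ g * z * g⁻¹ ∈ D.E :=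
    fun hg z => Subgroup.mem_normalizer_iff.mp hg z
  let c : T → D.E → D.E := fun g x => ⟨(g : G)⁻¹ * (x : G) * (g : G), (hTmem g.2 _).mpr (by
    rw [show (g : G) * ((g : G)⁻¹ * (x : G) * (g : G)) * (g : G)⁻¹ = (x : G) by group]; exact x.2)⟩
  obtain ⟨w, hwT, hwE⟩ : ∃ w ∈ T, w ∉ D.E := by
    by_contra hc
    push Not at hc
    have := D.card_norm
    rw [← hT, le_antisymm hc hET] at this
    have := D.two_le
    omega
  have hidx : D.E.relIndex T = 2 := by
    have h := Subgroup.card_mul_index (D.E.subgroupOf T)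
    rw [Nat.card_congr (Subgroup.subgroupOfEquivOfLe hET).toEquiv, ← Subgroup.relIndex,
      D.card_norm, mul_comm 2] at h
    exact Nat.eq_of_mul_eq_mul_left Nat.card_pos h
  have hcw : ∀ g : T, (g : G) ∉ D.E → ∀ x, c g x = c ⟨w, hwT⟩ x := by
    intro g hg x
    have hmem : (g : G) * w⁻¹ ∈ D.E := by
      have h2 := Subgroup.mul_mem_iff_of_index_two (H := D.E.subgroupOf T) hidx (a := g)
        (b := ⟨w, hwT⟩⁻¹)
      simp only [Subgroup.mem_subgroupOf, Subgroup.coe_mul, Subgroup.coe_inv,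
        inv_mem_iff, hwE, hg, iff_true] at h2
      exact h2
    apply Subtype.ext
    show (g : G)⁻¹ * (x : G) * (g : G) = w⁻¹ * (x : G) * w
    obtain ⟨n, hn⟩ : ∃ n : D.E, (g : G) = (n : G) * w := ⟨⟨_, hmem⟩, by simp⟩
    rw [hn, show ((n : G) * w)⁻¹ * (x : G) * ((n : G) * w) =
      w⁻¹ * ((n : G)⁻¹ * ((x : G) * (n : G))) * w by group,
      ← Subgroup.coe_mul, D.E_comm x n, Subgroup.coe_mul, inv_mul_cancel_left]
  have hval : ∀ x : D.E, x ≠ 1 →
      Γ (x : G) = 2 - (ω x : ℂ) - (ω (c ⟨w, hwT⟩ x) : ℂ) := by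
    intro x hx
    have e0 : ∀ g : G, Cfsg.extendByZero D.E θ (g⁻¹ * (x : G) * g) =
        if hg : g ∈ T then θ (c ⟨g, hg⟩ x) else 0 := by
      intro g
      split_ifs with hg
      · exact CharInd.extendByZero_coe D.E θ (c ⟨g, hg⟩ x)
      · refine CharInd.extendByZero_notMem _ fun hc => hg ?_
        have := D.ti (x : G) x.2 (fun e => hx (Subtype.ext e)) g⁻¹ (by simpa using hc)
        exact inv_mem_iff.mp this
    rw [hΓ, CharInd.indFun_apply]
    simp only [e0]
    have hsum : ∑ g : G, (if hg : g ∈ T then θ (c ⟨g, hg⟩ x) else 0) = ∑ g : T, θ (c g x) := by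
      rw [Finset.sum_dite, Finset.sum_const_zero, add_zero]
      exact Finset.sum_bij (fun g _ => (⟨g.1, (Finset.mem_filter.mp g.2).2⟩ : T))
        (fun _ _ => Finset.mem_univ _) (fun a _ b _ h => Subtype.ext (Subtype.ext_iff.mp h :))
        (fun b _ => ⟨⟨b.1, by simp⟩, Finset.mem_univ _, rfl⟩) (fun _ _ => rfl)
    rw [hsum, ← Finset.sum_filter_add_sum_filter_not Finset.univ (fun g : T => (g : G) ∈ D.E)]
    have h1 : ∀ g ∈ Finset.univ.filter (fun g : T => (g : G) ∈ D.E), θ (c g x) = θ x := by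
      intro g hg
      congr 1
      apply Subtype.ext
      have := congrArg (fun t : D.E => (t : G))
        (D.E_comm x ⟨(g : G), (Finset.mem_filter.mp hg).2⟩)
      show (g : G)⁻¹ * (x : G) * (g : G) = x
      simp only [Subgroup.coe_mul] at this
      rw [mul_assoc, this, inv_mul_cancel_left]
    have h2 : ∀ g ∈ Finset.univ.filter (fun g : T => ¬ (g : G) ∈ D.E),
        θ (c g x) = θ (c ⟨w, hwT⟩ x) := fun g hg => by
      rw [hcw g (Finset.mem_filter.mp hg).2]
    have hc1 : (Finset.univ.filter (fun g : T => (g : G) ∈ D.E)).card = Nat.card D.E := by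
      rw [← Fintype.card_subtype, ← Nat.card_eq_fintype_card]
      exact Nat.card_congr (Subgroup.subgroupOfEquivOfLe hET).toEquiv
    have hc2 : (Finset.univ.filter (fun g : T => ¬ (g : G) ∈ D.E)).card = Nat.card D.E := by
      have := Finset.card_filter_add_card_filter_not (s := Finset.univ)
        (fun g : T => (g : G) ∈ D.E)
      rw [hc1, Finset.card_univ, ← Nat.card_eq_fintype_card, D.card_norm] at this
      omega
    rw [Finset.sum_congr rfl h1, Finset.sum_congr rfl h2, Finset.sum_const, Finset.sum_const, hc1,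
      hc2, ← smul_add, nsmul_eq_mul, ← mul_assoc,
      inv_mul_cancel₀ (Nat.cast_ne_zero.mpr Nat.card_pos.ne'), one_mul]
    simp only [θ]; ring
  -- the determinant: the normaliser inverts the complement
  have hinvw : ∀ x : D.E, c ⟨w, hwT⟩ x = x⁻¹ := by
    obtain ⟨y, hy⟩ := D.exists_E_gen
    obtain ⟨a, b, ha, hb, hab⟩ := hΓg
    obtain ⟨n₁, ρ₁, rfl⟩ := ha
    obtain ⟨n₂, ρ₂, rfl⟩ := hb
    obtain ⟨b₁, v₁, hv₁, -, hb₁, hk₁⟩ := CharCore.exists_eigenvalues ρ₁ (y : G)
    obtain ⟨b₂, v₂, hv₂, -, hb₂, hk₂⟩ := CharCore.exists_eigenvalues ρ₂ (y : G)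
    have hy1 : ∀ t : D.E, (ω t : ℂ) ^ orderOf (y : G) = 1 := fun t => by
      rw [Subgroup.orderOf_coe, ← Units.val_pow_eq_pow_val, ← map_pow]
      obtain ⟨n, rfl⟩ := hy t
      rw [pow_right_comm, pow_orderOf_eq_one, one_pow, map_one, Units.val_one]
    have hcpow : ∀ m : ℕ, c ⟨w, hwT⟩ (y ^ m) = (c ⟨w, hwT⟩ y) ^ m := fun m => by
      apply Subtype.ext
      show w⁻¹ * ((y ^ m : D.E) : G) * w = (((c ⟨w, hwT⟩ y) ^ m : D.E) : G)
      rw [SubmonoidClass.coe_pow, SubmonoidClass.coe_pow]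
      show w⁻¹ * (y : G) ^ m * w = (w⁻¹ * (y : G) * w) ^ m
      have := _root_.conj_pow (i := m) (a := w⁻¹) (b := (y : G))
      rw [inv_inv] at this
      exact this.symm
    have hps := CharDeep.Ext.prod_eq_of_power_sums
      (Sum.elim v₁ ![(ω y : ℂ), (ω (c ⟨w, hwT⟩ y) : ℂ)]) (Sum.elim v₂ ![1, 1])
      (orderOf_pos (y : G))
      (fun i => by
        rcases i with i | i
        · exact hv₁ i
        · fin_cases i
          · exact hy1 y
          · exact hy1 _)
      (fun i => by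
        rcases i with i | i
        · exact hv₂ i
        · fin_cases i <;> simp)
      (fun m => by
        rw [Fintype.sum_sum_type, Fintype.sum_sum_type]
        simp only [Sum.elim_inl, Sum.elim_inr, Fin.sum_univ_two, Matrix.cons_val_zero,
          Matrix.cons_val_one, one_pow, ← hk₁, ← hk₂]
        have h := congrFun hab ((y : G) ^ m)
        rw [Pi.sub_apply] at h
        by_cases hm : y ^ m = 1
        · have hmG : (y : G) ^ m = 1 := by
            rw [← SubmonoidClass.coe_pow, hm, OneMemClass.coe_one]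
          rw [hmG, hΓ1] at h
          rw [hmG, ← Units.val_pow_eq_pow_val, ← map_pow, hm, ← Units.val_pow_eq_pow_val,
            ← map_pow ω, ← hcpow, hm]
          simp only [map_one, Units.val_one]
          have : (ω (c ⟨w, hwT⟩ 1) : ℂ) = 1 := by
            rw [show c ⟨w, hwT⟩ 1 = 1 from Subtype.ext (by simp [c]), map_one, Units.val_one]
          rw [this]
          linear_combination -h
        · have h3 := hval _ hm
          rw [SubmonoidClass.coe_pow] at h3
          rw [h3, hcpow, map_pow, map_pow, Units.val_pow_eq_pow_val, Units.val_pow_eq_pow_val] at h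
          linear_combination -h)
    simp only [Fintype.prod_sum_type, Sum.elim_inl, Sum.elim_inr, Fin.prod_univ_two,
      Matrix.cons_val_zero, Matrix.cons_val_one, mul_one] at hps
    rw [← CharDeep.Ext.det_eq_prod_eigen b₁ v₁ _ hb₁,
      ← CharDeep.Ext.det_eq_prod_eigen b₂ v₂ _ hb₂] at hps
    have hdet : ∀ {n : ℕ} (ρ : Representation ℂ G (Fin n → ℂ)), LinearMap.det (ρ (y : G)) = 1 := by
      intro n ρ
      let φ : G →* ℂˣ := CharDeep.Ext.detRep ρ
      have h1 : commutator G ≤ φ.ker := Abelianization.commutator_subset_ker φ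
      rw [D.perfect] at h1
      exact congrArg Units.val (show φ (y : G) = 1 from h1 (Subgroup.mem_top (y : G)))
    rw [hdet, hdet, one_mul] at hps
    have hcy : c ⟨w, hwT⟩ y = y⁻¹ := hω (by
      rw [map_inv]
      exact eq_inv_of_mul_eq_one_right (Units.ext (by simpa using hps)))
    intro x
    obtain ⟨m, rfl⟩ := hy x
    rw [hcpow, hcy, inv_pow]
  have hval' : ∀ x : D.E, Γ (x : G) = 2 - (ω x : ℂ) - ((ω x)⁻¹ : ℂˣ) := by
    intro x
    by_cases hx : x = 1
    · subst hx; rw [OneMemClass.coe_one, hΓ1]; simp; norm_num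
    · rw [hval x hx, hinvw, map_inv]
  -- reality
  have hΓreal : ∀ g, Γ g⁻¹ = Γ g := by
    intro g
    rw [hΓ, CharInd.indFun_apply, CharInd.indFun_apply]
    congr 1
    refine Fintype.sum_equiv (Equiv.mulRight w) _ _ fun h => ?_
    simp only [Equiv.coe_mulRight]
    rw [show (h * w)⁻¹ * g * (h * w) = w⁻¹ * (h⁻¹ * g * h) * w by group,
      show h⁻¹ * g⁻¹ * h = (h⁻¹ * g * h)⁻¹ by group]
    generalize h⁻¹ * g * h = t
    by_cases ht : t ∈ D.E
    · have e1 := congrArg (fun u : D.E => (u : G)) (hinvw ⟨t, ht⟩)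
      simp only [c, Subgroup.coe_inv] at e1
      rw [← e1]
    · rw [CharInd.extendByZero_notMem _ (fun hh => ht (inv_mem_iff.mp hh)),
        CharInd.extendByZero_notMem _ (fun hh => ht (by
          have := (hTmem hwT (w⁻¹ * t * w)).mp hh
          simpa [mul_assoc] using this))]
  -- norm
  have hsum0 : ∀ f : D.E →* ℂˣ, f ≠ 1 → ∑ x, (f x : ℂ) = 0 := by
    intro f hf
    obtain ⟨b, hb⟩ : ∃ b, f b ≠ 1 := by
      by_contra hc
      push Not at hc
      exact hf (MonoidHom.ext hc)
    have h1 : (f b : ℂ) * ∑ x, (f x : ℂ) = ∑ x, (f x : ℂ) := by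
      rw [Finset.mul_sum]
      exact Fintype.sum_equiv (Equiv.mulLeft b) _ _ fun x => by simp
    have h2 : ((f b : ℂ) - 1) * ∑ x, (f x : ℂ) = 0 := by rw [sub_mul, one_mul, h1, sub_self]
    exact (mul_eq_zero.mp h2).resolve_left (sub_ne_zero.mpr fun e => hb (Units.ext e))
  have hω1 : ω ≠ 1 := fun h => by
    obtain ⟨x, hx⟩ := Finite.one_lt_card_iff_nontrivial.mp D.two_le |>.exists_pair_ne
    obtain ⟨z, hz⟩ := hx
    exact hz (hω (by rw [h]; rfl))
  have hω' : ω⁻¹ ≠ 1 := fun h => hω1 (MonoidHom.ext fun x => by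
    simpa using DFunLike.congr_fun h x)
  have hω2 : ω * ω ≠ 1 := fun h => by
    have hsq : ∀ x : D.E, (x : D.E) * x = 1 := fun x => hω (by
      rw [map_mul, map_one]; exact DFunLike.congr_fun h x)
    obtain ⟨y, hy⟩ := D.exists_E_gen
    have hord : orderOf y = Nat.card D.E := orderOf_eq_card_of_forall_mem_zpowers fun x => by
      obtain ⟨n, rfl⟩ := hy x
      exact pow_mem (Subgroup.mem_zpowers y) n
    have := Nat.le_of_dvd two_pos (orderOf_dvd_of_pow_eq_one (x := y) (n := 2) (by rw [pow_two]; exact hsq y))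
    omega
  have hE0 : (Nat.card D.E : ℂ) ≠ 0 := Nat.cast_ne_zero.mpr Nat.card_pos.ne'
  have hconjω : ∀ x, conj (ω x : ℂ) = ((ω x)⁻¹ : ℂˣ) := fun x => by
    rw [Units.val_inv_eq_inv_val, Complex.inv_def, Complex.normSq_eq_norm_sq,
      CharCore.norm_hom_apply]
    simp
  have hclΓ : Cfsg.IsClassFunction G Γ := CharInd.isClassFunction_indFun D.E θ
  have hinner : ∀ f : G → ℂ, Cfsg.IsClassFunction G f →
      Cfsg.classInner Γ f = (Nat.card D.E : ℂ)⁻¹ * ∑ x : D.E, θ x * conj (f (x : G)) := by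
    intro f hf
    rw [hΓ, CharInd.classInner_indFun_left D.E θ hf]
    rfl
  have hcard : ∑ _x : D.E, (1 : ℂ) = Nat.card D.E := by simp
  have h10 : Cfsg.classInner Γ (1 : G → ℂ) = 1 := by
    rw [hinner 1 (fun _ _ => rfl)]
    simp only [Pi.one_apply, map_one, mul_one, θ, Finset.sum_sub_distrib, hsum0 ω hω1, sub_zero,
      hcard, inv_mul_cancel₀ hE0]
  have h1χ : Cfsg.classInner Γ (D.chi : G → ℂ) = 1 := by
    rw [hinner _ (CharCore.irr_isClassFunction D.chi)]
    have e1 : ∀ x : D.E, θ x * conj ((D.chi : G → ℂ) (x : G)) = θ x := fun x => by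
      by_cases hx : x = 1
      · subst hx; rw [hθ1, zero_mul]
      · rw [D.chi_E x hx, map_one, mul_one]
    simp only [e1]
    simp only [θ, Finset.sum_sub_distrib, hsum0 ω hω1, sub_zero, hcard, inv_mul_cancel₀ hE0]
  have hΓΓ : Cfsg.classInner Γ Γ = 3 := by
    rw [hinner Γ hclΓ]
    have e1 : ∀ x : D.E, θ x * conj (Γ (x : G)) =
        3 * 1 + (-3 * (ω x : ℂ)) + (-((ω⁻¹) x : ℂˣ) + ((ω * ω) x : ℂˣ)) := fun x => by
      rw [hval' x, map_sub, map_sub, map_ofNat, hconjω, ← map_inv, hconjω, map_inv, inv_inv]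
      simp only [θ, MonoidHom.mul_apply, MonoidHom.inv_apply, Units.val_mul]
      have h3 : (ω x : ℂ) * ((ω x)⁻¹ : ℂˣ) = 1 := Units.mul_inv _
      linear_combination h3
    simp only [e1, Finset.sum_add_distrib, ← Finset.mul_sum, Finset.sum_neg_distrib, hcard,
      hsum0 ω hω1, hsum0 (ω * ω) hω2, hsum0 ω⁻¹ hω']
    field_simp
    ring
  -- the new character
  set χ := (D.chi : G → ℂ) with hχ
  set Δ := Γ - 1 - χ with hΔ
  have hΔg : Cfsg.IsGeneralizedCharacter G Δ :=
    CharCore.isGeneralized_sub (CharCore.isGeneralized_sub hΓg CharCore.isGeneralized_one)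
      (CharCore.irr_isGeneralized D.chi)
  have h11 : Cfsg.classInner (1 : G → ℂ) 1 = 1 :=
    CharCore.classInner_irr_self ⟨1, CharCore.isIrrCharacter_one⟩
  have hχχ : Cfsg.classInner χ χ = 1 := CharCore.classInner_irr_self D.chi
  have h1χ' : Cfsg.classInner (1 : G → ℂ) χ = 0 :=
    CharCore.classInner_irr_of_ne (χ := ⟨1, CharCore.isIrrCharacter_one⟩) fun e => by
      have := congrFun (congrArg Subtype.val e) 1
      rw [D.chi_one] at this
      have hp1 : (p : ℂ) ≠ 1 := Nat.cast_ne_one.mpr hp.out.one_lt.ne'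
      exact hp1 this.symm
  have hswap : ∀ a b : G → ℂ, ∀ r : ℝ, Cfsg.classInner a b = (r : ℂ) →
      Cfsg.classInner b a = (r : ℂ) := fun a b r h => by
    rw [← CharCore.conj_classInner, h, Complex.conj_ofReal]
  have hnorm : Cfsg.classInner Δ Δ = 1 := by
    rw [hΔ]
    simp only [CharCore.classInner_sub_left, CharCore.classInner_sub_right]
    rw [hΓΓ, h10, h1χ, h11, hχχ, h1χ', show Cfsg.classInner (1 : G → ℂ) Γ = 1 by
        simpa using hswap Γ 1 1 (by simpa using h10),
      show Cfsg.classInner χ Γ = 1 by simpa using hswap Γ χ 1 (by simpa using h1χ),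
      show Cfsg.classInner χ (1 : G → ℂ) = 0 by simpa using hswap 1 χ 0 (by simpa using h1χ')]
    ring
  obtain ⟨A, hA⟩ := CharCore.IsGeneralizedCharacter.exists_irr_of_norm_one hΔg hnorm
  obtain ⟨n, hn, hn1⟩ := CharCore.IsIrrCharacter.exists_degree A.2
  have hA' : Δ = -(A : G → ℂ) := by
    refine hA.resolve_left fun h => ?_
    have h0 := congrFun h 1
    rw [hΔ, Pi.sub_apply, Pi.sub_apply, Pi.one_apply, hΓ1, hχ, D.chi_one, hn1] at h0
    have : ((n + (p + 1) : ℕ) : ℂ) = 0 := by push_cast; linear_combination -h0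
    rw [Nat.cast_eq_zero] at this
    omega
  have hAg : ∀ g, (A : G → ℂ) g = 1 + χ g - Γ g := fun g => by
    have h0 := congrFun hA' g
    rw [hΔ, Pi.sub_apply, Pi.sub_apply, Pi.one_apply, Pi.neg_apply] at h0
    linear_combination h0
  refine ⟨A, ?_, fun x hx => ?_, fun g => ?_, fun g hgT hgE x => ?_⟩
  · rw [hAg, hΓ1, hχ, D.chi_one]; ring
  · rw [hAg, hval', hχ, D.chi_E x hx]; ring
  · rw [hAg, hAg, hΓreal, hχ, D.chi_inv]
  · exact congrArg Subtype.val ((hcw ⟨g, hgT⟩ hgE x).trans (hinvw x))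

end Data

end Cfsg.Agent.PrimeDeg7
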