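import Mathlib

/-!
Finite groups of rotations: every non-identity element fixes two points; and centralisers of
involutions in `SL₂` over fields of characteristic two.
-/

set_option autoImplicit false

namespace Cfsg.Agent.PrimeDeg7

open MulAction Matrix

/-- The three-orbit arithmetic. -/
theorem arith_three {h e o0 o1 o2 s1 s2 : ℕ} (he : 3 ≤ e) (h0 : o0 * e = h) (h1 : o1 * s1 = h)
    (h2 : o2 * s2 = h) (hs1 : 2 ≤ s1) (hs2 : 2 ≤ s2) (hsum : o0 + o1 + o2 = h + 2) :
    h = 2 * e ∨ (e = 3 ∧ (h = 12 ∨ h = 24 ∨ h = 60)) ∨ (e = 4 ∧ h = 24) ∨ (e = 5 ∧ h = 60) := by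
  have key : ∀ {o1 o2 s2 : ℕ}, o1 * 2 = h → o2 * s2 = h → 2 ≤ s2 → o0 + o1 + o2 = h + 2 →
      h = 2 * e ∨ (e = 3 ∧ (h = 12 ∨ h = 24 ∨ h = 60)) ∨ (e = 4 ∧ h = 24) ∨
        (e = 5 ∧ h = 60) := by
    intro o1 o2 s2 h1 h2 hs2 hsum
    by_cases hs : s2 = 2
    · subst hs
      left
      have : o0 = 2 := by omega
      subst this
      omega
    by_cases he3 : e = 3
    · subst he3
      have hlt : s2 < 6 := by
        by_contra hc
        have : o2 * 6 ≤ h := h2 ▸ Nat.mul_le_mul_left _ (by omega)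
        omega
      interval_cases s2 <;> omega
    · have hs3 : s2 = 3 := by
        by_contra hc
        have : o2 * 4 ≤ h := h2 ▸ Nat.mul_le_mul_left _ (by omega)
        have : o0 * 4 ≤ h := h0 ▸ Nat.mul_le_mul_left _ (by omega)
        omega
      subst hs3
      have hlt : e < 6 := by
        by_contra hc
        have : o0 * 6 ≤ h := h0 ▸ Nat.mul_le_mul_left _ (by omega)
        omega
      interval_cases e <;> omega
  by_cases hs : s1 = 2
  · subst hs; exact key h1 h2 hs2 hsum
  by_cases hs' : s2 = 2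
  · subst hs'; exact key h2 h1 hs1 (by omega)
  exfalso
  have : o0 * 3 ≤ h := h0 ▸ Nat.mul_le_mul_left _ he
  have : o1 * 3 ≤ h := h1 ▸ Nat.mul_le_mul_left _ (by omega)
  have : o2 * 3 ≤ h := h2 ▸ Nat.mul_le_mul_left _ (by omega)
  omega

/-- A finite group in which every non-identity element fixes exactly two points of a set on
which all stabilisers are non-trivial. -/
theorem rotation_count {H X : Type*} [Group H] [Finite H] [MulAction H X] [Finite X]
    (hfix : ∀ g : H, g ≠ 1 → Nat.card (fixedBy X g) = 2)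
    (hst : ∀ x : X, 2 ≤ Nat.card (stabilizer H x)) (x₀ : X)
    (he : 3 ≤ Nat.card (stabilizer H x₀)) (hmove : Nat.card (stabilizer H x₀) < Nat.card H) :
    let e := Nat.card (stabilizer H x₀)
    let h := Nat.card H
    h = 2 * e ∨ (e = 3 ∧ (h = 12 ∨ h = 24 ∨ h = 60)) ∨ (e = 4 ∧ h = 24) ∨ (e = 5 ∧ h = 60) := by
  intro e h
  classical
  have := Fintype.ofFinite H
  have := Fintype.ofFinite X
  have : Fintype (orbitRel.Quotient H X) := Fintype.ofFinite _
  set r := Fintype.card (orbitRel.Quotient H X) with hr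
  have hburn : Nat.card X + 2 * (h - 1) = r * h := by
    have hb := MulAction.sum_card_fixedBy_eq_card_orbits_mul_card_group H X
    rw [← Finset.add_sum_erase _ _ (Finset.mem_univ (1 : H)),
      Finset.sum_congr rfl (g := fun _ => 2) fun g hg => by
        rw [← Nat.card_eq_fintype_card]; exact hfix g (Finset.ne_of_mem_erase hg),
      Finset.sum_const, smul_eq_mul, Finset.card_erase_of_mem (Finset.mem_univ _),
      Finset.card_univ] at hb
    have h1 : Fintype.card (fixedBy X (1 : H)) = Nat.card X := by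
      rw [← Nat.card_eq_fintype_card]
      exact Nat.card_congr ((Equiv.setCongr (by simp)).trans (Equiv.Set.univ X))
    rw [h1, mul_comm (Fintype.card H - 1)] at hb
    simpa [h, hr, Nat.card_eq_fintype_card] using hb
  let q : X → orbitRel.Quotient H X := Quotient.mk _
  let o : orbitRel.Quotient H X → ℕ := fun ω => Nat.card (orbit H ω.out)
  have hsum : Nat.card X = ∑ ω, o ω := by
    have : ∀ ω : orbitRel.Quotient H X, Finite (orbit H ω.out) := fun _ => Subtype.finite
    rw [Nat.card_congr (MulAction.selfEquivSigmaOrbits H X), Nat.card_sigma]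
  have hos : ∀ ω, o ω * Nat.card (stabilizer H ω.out) = h := fun ω => by
    show Nat.card (orbit H ω.out) * _ = _
    rw [Nat.card_coe_set_eq, ← index_stabilizer, Subgroup.index_mul_card]
  have ho2 : ∀ ω, 2 * o ω ≤ h := fun ω => by
    rw [← hos ω, mul_comm 2]; exact Nat.mul_le_mul_left _ (hst _)
  have hh : 2 ≤ h := by omega
  set ω₀ := q x₀
  have he₀ : Nat.card (stabilizer H ω₀.out) = e := by
    obtain ⟨g, hg⟩ : ω₀.out ∈ orbit H x₀ := Quotient.exact (Quotient.out_eq ω₀)
    rw [← hg]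
    exact (Nat.card_congr (stabilizerEquivStabilizer (a := x₀) (b := g • x₀) (g := g) rfl).toEquiv).symm
  have h0 : o ω₀ * e = h := he₀ ▸ hos ω₀
  have ho1 : 2 ≤ o ω₀ := by
    by_contra hc
    have : o ω₀ * e ≤ 1 * e := Nat.mul_le_mul_right _ (by omega)
    omega
  have hrle : r ≤ 3 := by
    have h1 : ∑ ω, 2 * o ω ≤ r * h := by
      refine (Finset.sum_le_sum fun ω _ => ho2 ω).trans (le_of_eq ?_)
      simp [hr]
    rw [← Finset.mul_sum, ← hsum] at h1
    by_contra hc
    have : 4 * h ≤ r * h := Nat.mul_le_mul_right _ (by omega)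
    omega
  have hrpos : 1 ≤ r := Fintype.card_pos_iff.mpr ⟨ω₀⟩
  have hpos : ∀ ω, 1 ≤ o ω := fun ω => Nat.one_le_iff_ne_zero.mpr fun h0 => by
    have := hos ω; rw [h0, zero_mul] at this; omega
  have hsplit : ∑ ω, o ω = o ω₀ + ∑ ω ∈ Finset.univ.erase ω₀, o ω :=
    (Finset.add_sum_erase _ _ (Finset.mem_univ _)).symm
  have hlow : (Finset.univ.erase ω₀).card ≤ ∑ ω ∈ Finset.univ.erase ω₀, o ω := by
    simpa using Finset.card_nsmul_le_sum (Finset.univ.erase ω₀) o 1 fun ω _ => hpos ω
  have hcard : (Finset.univ.erase ω₀).card = r - 1 := by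
    rw [Finset.card_erase_of_mem (Finset.mem_univ _), Finset.card_univ]
  rw [hsum, hsplit] at hburn
  obtain h3 | h3 | h3 : r = 1 ∨ r = 2 ∨ r = 3 := by omega
  · exfalso
    rw [h3] at hburn hcard
    have he0 : Finset.univ.erase ω₀ = ∅ := Finset.card_eq_zero.mp hcard
    rw [he0, Finset.sum_empty] at hburn
    have := ho2 ω₀
    omega
  · exfalso
    rw [h3] at hburn hcard
    rw [hcard] at hlow
    obtain ⟨ω₁, hset⟩ := Finset.card_eq_one.mp hcard
    rw [hset, Finset.sum_singleton] at hburn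
    have := hpos ω₁
    omega
  rw [h3] at hburn hcard
  obtain ⟨ω₁, ω₂, hne, hset⟩ := Finset.card_eq_two.mp (hcard.trans rfl)
  rw [hset, Finset.sum_pair hne] at hburn
  exact arith_three he h0 (hos ω₁) (hos ω₂) (hst _) (hst _) (by omega)

/-- A finite group of order prime to the characteristic of rotations of a three-dimensional
orthogonal space, with a given stabiliser of a point. -/
theorem rotation_list {K : Type*} [Field K] [IsAlgClosed K] (h2 : (2 : K) ≠ 0) {H : Type*}
    [Group H] [Finite H] (hH : (Nat.card H : K) ≠ 0) (R : H →* Matrix (Fin 3) (Fin 3) K)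
    (hR : Function.Injective R) (hdet : ∀ g, (R g).det = 1) (B : Matrix (Fin 3) (Fin 3) K)
    (hBs : Bᵀ = B) (hB : B.det ≠ 0) (hinv : ∀ g, (R g)ᵀ * B * R g = B)
    (v₀ : Fin 3 → K) (S : Subgroup H) (hS : ∀ g, R g *ᵥ v₀ = v₀ ↔ g ∈ S) (hv₀ : v₀ ≠ 0)
    (he : 3 ≤ Nat.card S) (hlt : Nat.card S < Nat.card H) :
    let e := Nat.card S
    let h := Nat.card H
    h = 2 * e ∨ (e = 3 ∧ (h = 12 ∨ h = 24 ∨ h = 60)) ∨ (e = 4 ∧ h = 24) ∨ (e = 5 ∧ h = 60) := by
  intro e h
  classical
  have := Fintype.ofFinite H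
  set bf : (Fin 3 → K) → (Fin 3 → K) → K := fun x y => x ⬝ᵥ (B *ᵥ y) with hbf
  have hbinv : ∀ (g : H) x y, bf (R g *ᵥ x) (R g *ᵥ y) = bf x y := fun g x y => by
    simp only [hbf]
    rw [mulVec_mulVec, dotProduct_mulVec, ← vecMul_transpose, vecMul_vecMul, ← Matrix.mul_assoc,
      hinv, ← dotProduct_mulVec]
  have hbsymm : ∀ x y, bf x y = bf y x := fun x y => by
    simp only [hbf]
    rw [dotProduct_mulVec, ← mulVec_transpose, hBs, dotProduct_comm]
  have hsmul : ∀ (c : K) x, bf (c • x) (c • x) = c * c * bf x x := fun c x => by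
    simp only [hbf, mulVec_smul, smul_dotProduct, dotProduct_smul, smul_eq_mul, mul_assoc]
  -- a power sum of a map with square zero
  have hpow : ∀ (g : H) (x : Fin 3 → K) (l : Fin 3 → K), R g *ᵥ x = x + l → R g *ᵥ l = l →
      l = 0 := by
    intro g x l hx hl
    have : ∀ n : ℕ, R (g ^ n) *ᵥ x = x + (n : K) • l := by
      intro n
      induction n with
      | zero => simp
      | succ n ih =>
        rw [pow_succ', map_mul, ← mulVec_mulVec, ih, mulVec_add, mulVec_smul, hl, hx, Nat.cast_succ,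
          add_smul, one_smul, add_assoc, add_comm l]
    have h1 := this (Nat.card H)
    rw [pow_card_eq_one', map_one, one_mulVec, left_eq_add] at h1
    exact (smul_eq_zero.mp h1).resolve_left hH
  have hexfix : ∀ g : H, ∃ l : Fin 3 → K, l ≠ 0 ∧ R g *ᵥ l = l := by
    intro g
    have e1 : ((R g)ᵀ - 1) * B * R g = -(B * (R g - 1)) := by
      rw [Matrix.sub_mul, Matrix.sub_mul, Matrix.one_mul, hinv, Matrix.mul_sub, Matrix.mul_one,
        neg_sub]
    have e2 := congrArg Matrix.det e1
    rw [det_mul, det_mul, det_neg, det_mul, hdet, Fintype.card_fin,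
      show (R g)ᵀ - 1 = (R g - 1)ᵀ by rw [transpose_sub, transpose_one], det_transpose] at e2
    have e3 : (2 : K) * ((R g - 1).det * B.det) = 0 := by linear_combination e2
    have e4 : (R g - 1).det = 0 :=
      (mul_eq_zero.mp ((mul_eq_zero.mp e3).resolve_left h2)).resolve_right hB
    obtain ⟨l, hl, hl0⟩ := exists_mulVec_eq_zero_iff.mpr e4
    exact ⟨l, hl, sub_eq_zero.mp (by rwa [sub_mulVec, one_mulVec] at hl0)⟩
  have hline : ∀ g : H, g ≠ 1 → ∀ l, l ≠ 0 → R g *ᵥ l = l → ∀ w, R g *ᵥ w = w → w ∈ K ∙ l := by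
    intro g hg l hl hlf w hwf
    by_contra hw
    set f := Matrix.toLin' (R g - 1) with hf
    have hmem : ∀ v, v ∈ LinearMap.ker f ↔ R g *ᵥ v = v := fun v => by
      rw [LinearMap.mem_ker, hf, toLin'_apply, sub_mulVec, one_mulVec, sub_eq_zero]
    have hr : Module.finrank K (LinearMap.range f) ≤ 1 := by
      have hlt : K ∙ l < LinearMap.ker f := by
        refine SetLike.lt_iff_le_and_exists.mpr
          ⟨(Submodule.span_singleton_le_iff_mem _ _).mpr ((hmem l).mpr hlf), w, (hmem w).mpr hwf, hw⟩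
      have h1 := Submodule.finrank_lt_finrank_of_lt hlt
      rw [finrank_span_singleton hl] at h1
      have h2 := f.finrank_range_add_finrank_ker
      rw [Module.finrank_fin_fun] at h2
      omega
    obtain ⟨a, ha⟩ := finrank_le_one_iff.mp hr
    choose b hb using fun i => ha ⟨f (Pi.single i 1), LinearMap.mem_range_self f _⟩
    have hfm : R g - 1 = Matrix.vecMulVec a.1 b := by
      ext i j
      have := congrFun (congrArg Subtype.val (hb j)) i
      simp only [SetLike.val_smul, Pi.smul_apply, smul_eq_mul, hf, toLin'_apply,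
        mulVec_single_one, Matrix.col_apply] at this
      rw [vecMulVec_apply, ← this, mul_comm]
    have hRg : R g = 1 + Matrix.vecMulVec a.1 b := eq_add_of_sub_eq' hfm
    have hd : b ⬝ᵥ a.1 = 0 := by
      have := hdet g
      rw [hRg, Matrix.vecMulVec_eq Unit, Matrix.det_one_add_replicateCol_mul_replicateRow] at this
      simpa using this
    have hN : ∀ x, R g *ᵥ x = x + (b ⬝ᵥ x) • a.1 := fun x => by
      rw [hRg, add_mulVec, one_mulVec, vecMulVec_mulVec]
      simp
    have hall : ∀ x, R g *ᵥ x = x := fun x => by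
      have hl' : R g *ᵥ ((b ⬝ᵥ x) • a.1) = (b ⬝ᵥ x) • a.1 := by
        rw [mulVec_smul, hN, hd, zero_smul, add_zero]
      rw [hN, hpow g x _ (hN x) hl', add_zero]
    refine hg (hR ?_)
    rw [map_one]
    refine ext_of_mulVec_single fun i => ?_
    rw [hall, one_mulVec]
  have haniso : ∀ g : H, g ≠ 1 → ∀ l, l ≠ 0 → R g *ᵥ l = l → bf l l ≠ 0 := by
    intro g hg l hl hlf h0
    set f := Matrix.toLin' (R g - 1) with hf
    let φ : (Fin 3 → K) →ₗ[K] K :=
      { toFun := fun x => bf l x
        map_add' := fun x y => by simp [hbf, mulVec_add, dotProduct_add]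
        map_smul' := fun c x => by simp [hbf, mulVec_smul, dotProduct_smul] }
    have hφ : φ ≠ 0 := fun hz => hl (by
      have hv : ∀ y, l ⬝ᵥ (B *ᵥ y) = 0 := fun y => LinearMap.congr_fun hz y
      have : l ᵥ* B = 0 := funext fun i => by
        have := hv (Pi.single i 1)
        rw [dotProduct_mulVec, dotProduct_single, mul_one] at this
        exact this
      exact eq_zero_of_vecMul_eq_zero hB this)
    have hle : LinearMap.range f ≤ LinearMap.ker φ := by
      rintro _ ⟨x, rfl⟩
      rw [LinearMap.mem_ker]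
      show bf l (f x) = 0
      rw [hf, toLin'_apply, sub_mulVec, one_mulVec]
      have := hbinv g l x
      rw [hlf] at this
      simp only [hbf] at this ⊢
      rw [mulVec_sub, dotProduct_sub, this, sub_self]
    have hkf : Module.finrank K (LinearMap.ker f) ≤ 1 := by
      rw [← finrank_span_singleton (K := K) hl]
      refine Submodule.finrank_mono fun v hv => hline g hg l hl hlf v ?_
      rwa [LinearMap.mem_ker, hf, toLin'_apply, sub_mulVec, one_mulVec, sub_eq_zero] at hv
    have h1 := f.finrank_range_add_finrank_ker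
    have h2 := φ.finrank_range_add_finrank_ker
    rw [Module.finrank_fin_fun] at h1 h2
    have h3 : 1 ≤ Module.finrank K (LinearMap.range φ) :=
      Nat.one_le_iff_ne_zero.mpr fun hz => hφ (LinearMap.range_eq_bot.mp
        (Submodule.finrank_eq_zero.mp hz))
    have heq := Submodule.eq_of_le_of_finrank_le hle (by omega)
    have hmem : l ∈ LinearMap.range f := heq ▸ (LinearMap.mem_ker.mpr h0)
    obtain ⟨x, hx⟩ := hmem
    rw [hf, toLin'_apply, sub_mulVec, one_mulVec, sub_eq_iff_eq_add'] at hx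
    exact hl (hpow g x l hx hlf)
  -- the unit vectors with non-trivial stabiliser
  have hunit : ∀ g : H, g ≠ 1 → ∃ l, ∀ x, (bf x x = 1 ∧ R g *ᵥ x = x) ↔ x = l ∨ x = -l := by
    intro g hg
    obtain ⟨l, hl, hlf⟩ := hexfix g
    have hll := haniso g hg l hl hlf
    obtain ⟨c, hc⟩ := IsAlgClosed.exists_pow_nat_eq ((bf l l)⁻¹) two_pos
    have hcc : c * c * bf l l = 1 := by rw [← pow_two, hc, inv_mul_cancel₀ hll]
    refine ⟨c • l, fun x => ⟨fun ⟨h1, hx⟩ => ?_, ?_⟩⟩
    · obtain ⟨d, rfl⟩ := Submodule.mem_span_singleton.mp (hline g hg l hl hlf x hx)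
      have hdd : d * d * bf l l = 1 := by rw [← hsmul]; exact h1
      rcases mul_self_eq_mul_self_iff.mp (mul_right_cancel₀ hll (hdd.trans hcc.symm)) with e | e
      · exact Or.inl (by rw [e])
      · exact Or.inr (by rw [e, neg_smul])
    · rintro (rfl | rfl)
      · exact ⟨(hsmul c l).trans hcc, by rw [mulVec_smul, hlf]⟩
      · exact ⟨by rw [← neg_smul, hsmul, neg_mul_neg, hcc], by rw [mulVec_neg, mulVec_smul, hlf]⟩
  let P : Set (Fin 3 → K) := {x | bf x x = 1 ∧ ∃ g : H, g ≠ 1 ∧ R g *ᵥ x = x}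
  have hP : ∀ (g : H) x, x ∈ P → R g *ᵥ x ∈ P := by
    rintro g x ⟨h1, k, hk, hkx⟩
    refine ⟨(hbinv g x x).trans h1, g * k * g⁻¹, fun hc => hk (conj_eq_one_iff.mp hc), ?_⟩
    rw [mulVec_mulVec, ← map_mul, inv_mul_cancel_right, map_mul, ← mulVec_mulVec, hkx]
  choose l hl using hunit
  have : Finite P := by
    refine Set.finite_coe_iff.mpr (Set.Finite.subset (Set.finite_range
      (fun z : {g : H // g ≠ 1} × Bool => bif z.2 then l z.1.1 z.1.2 else -l z.1.1 z.1.2)) ?_)
    rintro x ⟨h1, g, hg, hgx⟩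
    rcases (hl g hg x).mp ⟨h1, hgx⟩ with e | e
    · exact ⟨(⟨g, hg⟩, true), e.symm⟩
    · exact ⟨(⟨g, hg⟩, false), e.symm⟩
  let : MulAction H P :=
    { smul := fun g x => ⟨R g *ᵥ x.1, hP g x.1 x.2⟩
      one_smul := fun x => Subtype.ext (by show R 1 *ᵥ x.1 = x.1; simp)
      mul_smul := fun g k x => Subtype.ext (by
        show R (g * k) *ᵥ x.1 = R g *ᵥ (R k *ᵥ x.1); rw [map_mul, mulVec_mulVec]) }
  have hfix : ∀ g : H, g ≠ 1 → Nat.card (fixedBy P g) = 2 := by
    intro g hg
    have hne : l g hg ≠ -l g hg := fun hc => by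
      have h1 := ((hl g hg (l g hg)).mpr (Or.inl rfl)).1
      have hz : (2 : K) • l g hg = 0 := by rw [two_smul]; nth_rw 2 [hc]; exact add_neg_cancel _
      rw [(smul_eq_zero.mp hz).resolve_left h2] at h1
      simp [hbf] at h1
    rw [← Set.ncard_pair hne, ← Nat.card_coe_set_eq]
    refine Nat.card_congr
      { toFun := fun x => ⟨x.1.1, (hl g hg x.1.1).mp ⟨x.1.2.1, congrArg Subtype.val x.2⟩⟩
        invFun := fun x => ⟨⟨x.1, ⟨((hl g hg x.1).mpr x.2).1, g, hg, ((hl g hg x.1).mpr x.2).2⟩⟩,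
          Subtype.ext ((hl g hg x.1).mpr x.2).2⟩
        left_inv := fun x => rfl
        right_inv := fun x => rfl }
  have hst : ∀ x : P, 2 ≤ Nat.card (stabilizer H x) := by
    rintro ⟨x, h1, g, hg, hgx⟩
    have : Nontrivial (stabilizer H (⟨x, h1, g, hg, hgx⟩ : P)) :=
      ⟨⟨g, Subtype.ext hgx⟩, 1, fun hc => hg (congrArg Subtype.val hc)⟩
    exact Finite.one_lt_card
  obtain ⟨s, hs, hs1⟩ : ∃ s ∈ S, s ≠ 1 := by
    by_contra hc
    push Not at hc
    have : S = ⊥ := (Subgroup.eq_bot_iff_forall S).mpr hc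
    rw [this, Subgroup.card_bot] at he
    omega
  have hv0 := haniso s hs1 v₀ hv₀ ((hS s).mpr hs)
  obtain ⟨c, hc⟩ := IsAlgClosed.exists_pow_nat_eq ((bf v₀ v₀)⁻¹) two_pos
  have hcc : c * c * bf v₀ v₀ = 1 := by rw [← pow_two, hc, inv_mul_cancel₀ hv0]
  have hc0 : c ≠ 0 := fun hz => by simp [hz] at hcc
  let x₀ : P := ⟨c • v₀, (hsmul c v₀).trans hcc, s, hs1, by rw [mulVec_smul, (hS s).mpr hs]⟩
  have hstab : stabilizer H x₀ = S := by
    ext g
    rw [mem_stabilizer_iff]
    constructor
    · intro hg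
      have h1 : R g *ᵥ (c • v₀) = c • v₀ := congrArg Subtype.val hg
      rw [mulVec_smul] at h1
      exact (hS g).mp (smul_right_injective _ hc0 h1)
    · intro hg
      exact Subtype.ext (by show R g *ᵥ (c • v₀) = c • v₀; rw [mulVec_smul, (hS g).mpr hg])
  have hrc := rotation_count hfix hst x₀ (by rw [hstab]; exact he) (by rw [hstab]; exact hlt)
  rw [hstab] at hrc
  exact hrc

/-- An involution of `SL₂` in characteristic two centralises at least `#F` elements. -/
theorem card_le_centralizer_sl_two {F : Type*} [Field F] [Finite F] [CharP F 2]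
    (z : Matrix.SpecialLinearGroup (Fin 2) F) (hz : z * z = 1) (hz1 : z ≠ 1) :
    Nat.card F ≤ Nat.card (Subgroup.centralizer ({z} : Set (Matrix.SpecialLinearGroup (Fin 2) F))) := by
  set A : Matrix (Fin 2) (Fin 2) F := (↑z : Matrix (Fin 2) (Fin 2) F) with hA
  set N := A + 1 with hN
  have hAA : A * A = 1 := by rw [hA, ← Matrix.SpecialLinearGroup.coe_mul, hz]; simp
  have htwo : ∀ M : Matrix (Fin 2) (Fin 2) F, M + M = 0 := fun M => by
    ext i j; simp [CharTwo.add_self_eq_zero]
  have hN2 : N * N = 0 := by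
    rw [hN, add_mul, mul_add, mul_add, hAA]
    simp only [Matrix.mul_one, Matrix.one_mul]
    rw [show (1 : Matrix (Fin 2) (Fin 2) F) + A + (A + 1) = (A + A) + (1 + 1) by abel,
      htwo, htwo, add_zero]
  have hN0 : N ≠ 0 := fun h0 => hz1 (Subtype.ext (by
    show A = 1
    have := congrArg (· + (1 : Matrix (Fin 2) (Fin 2) F)) h0
    simpa [hN, add_assoc, htwo] using this))
  have hsq : ∀ t : F, (1 + t • N) * (1 + t • N) = 1 := fun t => by
    rw [add_mul, mul_add, mul_add, Matrix.one_mul, Matrix.one_mul, Matrix.mul_one,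
      Matrix.smul_mul, Matrix.mul_smul, hN2, smul_zero, smul_zero, add_zero, add_assoc, htwo,
      add_zero]
  have hdet : ∀ t : F, (1 + t • N).det = 1 := fun t => by
    have := congrArg Matrix.det (hsq t)
    rw [det_mul, det_one, mul_self_eq_one_iff] at this
    rcases this with h | h
    · exact h
    · rw [h, CharTwo.neg_eq]
  refine Nat.card_le_card_of_injective (fun t : F => ⟨⟨1 + t • N, hdet t⟩, ?_⟩) ?_
  · refine Subgroup.mem_centralizer_iff.mpr fun g hg => ?_
    obtain rfl : g = z := hg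
    apply Subtype.ext
    show A * (1 + t • N) = (1 + t • N) * A
    have hc : N * A = A * N := by rw [hN, add_mul, mul_add, Matrix.one_mul, Matrix.mul_one]
    rw [add_mul, mul_add, Matrix.smul_mul, Matrix.mul_smul, hc, Matrix.one_mul, Matrix.mul_one]
  · intro s t hst
    have h1 : (1 + s • N : Matrix (Fin 2) (Fin 2) F) = 1 + t • N :=
      congrArg Subtype.val (congrArg Subtype.val hst)
    exact smul_left_injective F hN0 (add_left_cancel h1)

end Cfsg.Agent.PrimeDeg7
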