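import Cfsg.Agent.PrimeDeg7.Transfer
import Cfsg.Agent.Lib.Perm.PermModule

/-!
The three-dimensional representation in characteristic `p`.
-/

set_option autoImplicit false
set_option linter.unusedSectionVars false

namespace Cfsg.Agent.PrimeDeg7

open MulAction Module

variable {α : Type*} [Fintype α] [DecidableEq α] {p : ℕ} [hp : Fact p.Prime]
  {G : Subgroup (Equiv.Perm α)} [IsPretransitive G α] (D : Data p G)
  {K : Type*} [Field K] [CharP K p] [IsAlgClosed K]

namespace Data

theorem not_solvable_of_perfect (hperf : commutator G = ⊤) [IsSimpleGroup G] : ¬ Group.IsSolvable G := by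
  intro h
  obtain ⟨n, hn⟩ := (Group.isSolvable_def G).mp h
  have htop : ∀ m, derivedSeries G m = ⊤ := by
    intro m
    induction m with
    | zero => exact derivedSeries_zero G
    | succ m ih => rw [derivedSeries_succ, ih, ← commutator_def]; exact hperf
  exact top_ne_bot ((htop n).symm.trans hn)

/-- A three-dimensional representation from a reduction with a good vector. -/
theorem exists_three_of_good {V : Type*} [AddCommGroup V] [Module K V] [FiniteDimensional K V]
    {ρ : Representation K G V} [Fintype D.E] [IsSimpleGroup G] (hperf : commutator G = ⊤)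
    (heven : 2 ∣ Nat.card G) (he : 3 ≤ Nat.card D.E) (hred : D.IsRed ρ) (hgood : D.Good ρ) :
    ∃ R : G →* Matrix (Fin 3) (Fin 3) K, Function.Injective R ∧
      CurtisRichen82.Irred (ModRep.matRep R) ∧ (∀ g, (R g).trace = (R g⁻¹).trace) ∧
      ∀ x : D.E, R (x : G) = Matrix.diagonal ![1, (D.sK K x : K), ((D.sK K x)⁻¹ : Kˣ).val] := by
  classical
  have : Infinite K := IsAlgClosed.instInfinite
  have hE := D.card_E_ne (K := K)
  have h5 := D.five_le
  have h2 : (2 : K) ≠ 0 := by
    rw [← Nat.cast_ofNat, ne_eq, CharP.cast_eq_zero_iff K p]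
    intro h
    have := Nat.le_of_dvd two_pos h
    omega
  obtain ⟨hs1, hs2, hs3⟩ := D.sK_ne (K := K) he
  obtain ⟨F, hF, f0, hf0, hFf0⟩ := D.exists_transfer hgood
  obtain ⟨hone, hsw, hiw⟩ := hred.finrank_one_eq (D := D) he
  set R0 := (Cfsg.permSumZero K G α).toSubmodule with hR0
  have hR0mem : ∀ f, f ∈ R0 ↔ ∑ i, f i = 0 := fun f => Perm.mem_permSumZero_iff f
  -- the kernel is contained in the constants
  let W : Subrepresentation (Cfsg.permRep K G α) :=
    { toSubmodule := R0 ⊓ LinearMap.ker F
      apply_mem_toSubmodule := fun g f hf => by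
        refine ⟨(Cfsg.permSumZero K G α).apply_mem_toSubmodule g hf.1, LinearMap.mem_ker.mpr ?_⟩
        rw [hF g f ((hR0mem f).mp hf.1), LinearMap.mem_ker.mp hf.2, map_zero] }
  have hW : W.toSubmodule = ⊥ ∨ W.toSubmodule = (Cfsg.permConstants K G α).toSubmodule := by
    by_cases hb : W.toSubmodule = ⊥
    · exact Or.inl hb
    have hc := Perm.permConstants_le_of_ne_bot (p := p) (f := 1) (by rw [pow_one]; exact D.hα) W hb
    rcases Perm.PrimeDeg.heart_irreducible (K := K) (not_solvable_of_perfect hperf) (τ := D.u) (e := D.pt)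
        D.u_smul W hc inf_le_left with h | h
    · exact Or.inr (by rw [h])
    · exfalso
      have : f0 ∈ W.toSubmodule := by rw [h]; exact (hR0mem f0).mpr hf0
      exact hFf0 (LinearMap.mem_ker.mp this.2)
  have hconst1 : finrank K (Cfsg.permConstants K G α).toSubmodule ≤ 1 := by
    show finrank K (Submodule.span K {fun _ : α => (1 : K)}) ≤ 1
    exact (finrank_span_le_card _).trans (by simp)
  have hWle : finrank K W.toSubmodule ≤ 1 := by
    rcases hW with h | h <;> rw [h]
    · simp
    · exact hconst1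
  -- the image
  set I := R0.map F with hI
  have hIinv : ∀ g, ∀ v ∈ I, ρ g v ∈ I := by
    rintro g _ ⟨f, hf, rfl⟩
    exact ⟨_, (Cfsg.permSumZero K G α).apply_mem_toSubmodule g hf, hF g f ((hR0mem f).mp hf)⟩
  let sumMap : (α → K) →ₗ[K] K := ∑ i, LinearMap.proj i
  have hsumker : LinearMap.ker sumMap = R0 := by
    ext f; rw [LinearMap.mem_ker, hR0mem]; simp [sumMap]
  have hdR : finrank K R0 + 1 = p := by
    have h := sumMap.finrank_range_add_finrank_ker
    rw [hsumker, Module.finrank_fintype_fun_eq_card, D.hα] at h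
    have hr : LinearMap.range sumMap = ⊤ := by
      refine LinearMap.range_eq_top.mpr fun c => ⟨Pi.single D.a c, ?_⟩
      simp [sumMap]
    rw [hr, finrank_top, Module.finrank_self] at h
    omega
  have hmapdim : ∀ S : Submodule K (α → K), S ≤ R0 →
      finrank K (S.map F) + finrank K (W.toSubmodule ⊓ S : Submodule K (α → K)) = finrank K S := by
    intro S hS
    have h := (F.domRestrict S).finrank_range_add_finrank_ker
    rw [LinearMap.range_domRestrict] at h
    rw [← h, add_right_inj, LinearMap.ker_domRestrict]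
    have e : Submodule.comap S.subtype (LinearMap.ker F) =
        Submodule.comap S.subtype (W.toSubmodule ⊓ S) := by
      ext ⟨f, hf⟩
      simp [W, hS hf]
    rw [e]
    exact (Submodule.comapSubtypeEquivOfLe inf_le_right).finrank_eq.symm
  have hdI : finrank K I + finrank K W.toSubmodule + 1 = p := by
    have h := hmapdim R0 le_rfl
    rw [inf_eq_left.mpr (inf_le_left : W.toSubmodule ≤ R0), ← hI] at h
    linarith [hdR, h]
  -- weights in the image
  have hweight : ∀ ν : D.E →* Kˣ, wspace (D.resE ρ) ν ⊓ I ≤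
      (wspace (D.resE (Cfsg.permRep K G α)) ν ⊓ R0).map F := by
    rintro ν _ ⟨hν, f, hf, rfl⟩
    have hfR : ∀ x : D.E, D.resE ρ x (F f) = F (D.resE (Cfsg.permRep K G α) x f) := fun x =>
      (hF (x : G) f ((hR0mem f).mp hf)).symm
    refine ⟨wproj (D.resE (Cfsg.permRep K G α)) ν f, ⟨⟨f, rfl⟩, ?_⟩, ?_⟩
    · rw [wproj_apply]
      exact R0.smul_mem _ (R0.sum_mem fun x _ => R0.smul_mem _
        ((Cfsg.permSumZero K G α).apply_mem_toSubmodule _ hf))
    · have e : wproj (D.resE ρ) ν (F f) = F (wproj (D.resE (Cfsg.permRep K G α)) ν f) := by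
        simp only [wproj_apply, map_smul, map_sum, hfR]
      rw [← e]
      exact wproj_eq_self hE ((mem_wspace hE).mp hν)
  have hout : ∀ ν : D.E →* Kˣ,
      finrank K ((wspace (D.resE (Cfsg.permRep K G α)) ν ⊓ R0).map F) <
        finrank K (wspace (D.resE ρ) ν) →
      ∃ v ∈ wspace (D.resE ρ) ν, v ∉ I := by
    intro ν hlt
    by_contra hc
    push Not at hc
    have := Submodule.finrank_mono ((le_inf le_rfl hc).trans (hweight ν))
    omega
  have hkν : ∀ ν : D.E →* Kˣ, ν ≠ 1 →
      finrank K ((wspace (D.resE (Cfsg.permRep K G α)) ν ⊓ R0).map F) ≤ D.k := fun ν hν =>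
    ((Submodule.finrank_map_le _ _).trans (Submodule.finrank_mono inf_le_left)).trans
      ((D.finrank_perm_le (K := K) ν).1 hν)
  obtain ⟨v1, hv1, hv1I⟩ := hout (D.sK K) (by have := hkν _ hs1; omega)
  obtain ⟨v2, hv2, hv2I⟩ := hout (D.sK K)⁻¹ (by have := hkν _ hs2; omega)
  let ρQ : Representation K G (V ⧸ I) :=
    { toFun := fun g => I.mapQ I (ρ g) (fun v hv => hIinv g v hv)
      map_one' := by ext v; simp
      map_mul' := fun g h => by ext v; simp }
  obtain ⟨y, hy⟩ := D.exists_E_gen
  obtain ⟨hy1, hy2⟩ := D.sK_pow_ne (K := K) hy he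
  have hdQ : finrank K (V ⧸ I) + finrank K I = p + 1 := by
    rw [Submodule.finrank_quotient_add_finrank, hred.finrank_eq]
  have hQeig : ∀ (ν : D.E →* Kˣ) v, v ∈ wspace (D.resE ρ) ν → ∀ x : D.E,
      ρQ (x : G) (Submodule.Quotient.mk v) = (ν x).val • Submodule.Quotient.mk v := by
    intro ν v hv x
    show I.mapQ I (ρ (x : G)) (fun v hv => hIinv (x : G) v hv) (Submodule.Quotient.mk v) = _
    rw [Submodule.mapQ_apply, ← Submodule.Quotient.mk_smul]
    exact congrArg _ ((mem_wspace hE).mp hv x)
  have hnontriv : ρQ (y : G) ≠ 1 := fun h => by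
    have h1 := hQeig _ _ hv1 y
    rw [h, Module.End.one_apply] at h1
    have h3 : ((D.sK K y : K) - 1) • (Submodule.Quotient.mk v1 : V ⧸ I) = 0 := by
      rw [sub_smul, one_smul, ← h1, sub_self]
    rcases smul_eq_zero.mp h3 with h4 | h4
    · exact hy1 (sub_eq_zero.mp h4)
    · exact hv1I ((Submodule.Quotient.mk_eq_zero I).mp h4)
  have hQ3 : 3 ≤ finrank K (V ⧸ I) := by
    by_contra hc
    exact hnontriv (rep_eq_one_of_finrank_le_two hperf h2 heven ρQ (by omega) (y : G))
  have hW1 : finrank K W.toSubmodule = 1 := by omega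
  have hQdim : finrank K (V ⧸ I) = 3 := by omega
  have hWc : W.toSubmodule = (Cfsg.permConstants K G α).toSubmodule := by
    refine hW.resolve_left fun h => ?_
    rw [h, finrank_bot] at hW1
    omega
  obtain ⟨v0, hv0, hv0I⟩ := hout 1 (by
    set S := wspace (D.resE (Cfsg.permRep K G α)) 1 ⊓ R0 with hS
    have h := hmapdim S inf_le_right
    have hWS : W.toSubmodule ≤ S := by
      refine le_inf (fun f hf => ?_) inf_le_left
      rw [hWc, Perm.mem_permConstants_iff] at hf
      obtain ⟨c, rfl⟩ := hf
      refine (mem_wspace hE).mpr fun x => ?_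
      rw [MonoidHom.one_apply, Units.val_one, one_smul]
      rfl
    rw [inf_eq_left.mpr hWS, hW1] at h
    have hSlt : S < wspace (D.resE (Cfsg.permRep K G α)) 1 := by
      refine lt_of_le_of_ne inf_le_left fun e => ?_
      have hmem : Pi.single D.a (1 : K) ∈ wspace (D.resE (Cfsg.permRep K G α)) 1 := by
        refine (mem_wspace hE).mpr fun x => ?_
        rw [MonoidHom.one_apply, Units.val_one, one_smul]
        show Cfsg.permRep K G α (x : G) (Pi.single D.a 1) = _
        rw [Perm.permRep_single, Data.a, D.E_smul, mul_zero]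
      rw [← e] at hmem
      have h0 := (hR0mem _).mp hmem.2
      simp at h0
    have := Submodule.finrank_lt_finrank_of_lt hSlt
    have := (D.finrank_perm_le (K := K) 1).2
    omega)
  -- the basis
  let vv : Fin 3 → V := ![v0, v1, v2]
  let νν : Fin 3 → D.E →* Kˣ := ![1, D.sK K, (D.sK K)⁻¹]
  have hvv : ∀ i, vv i ∈ wspace (D.resE ρ) (νν i) ∧ vv i ∉ I := by
    intro i; fin_cases i
    · exact ⟨hv0, hv0I⟩
    · exact ⟨hv1, hv1I⟩
    · exact ⟨hv2, hv2I⟩
  have hli : LinearIndependent K (fun i => (Submodule.Quotient.mk (vv i) : V ⧸ I)) := by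
    refine Module.End.eigenvectors_linearIndependent' (ρQ (y : G)) (fun i => (νν i y).val) ?_ _
      fun i => ⟨Module.End.mem_eigenspace_iff.mpr (hQeig _ _ (hvv i).1 y),
        fun h => (hvv i).2 ((Submodule.Quotient.mk_eq_zero I).mp h)⟩
    have hinv : ((D.sK K y)⁻¹ : Kˣ).val ≠ 1 := fun h => hy1 (by
      rw [Units.val_inv_eq_inv_val, inv_eq_one] at h; exact h)
    have hne : (D.sK K y : K) ≠ ((D.sK K y)⁻¹ : Kˣ).val := fun h => hy2 (by
      nth_rw 2 [h]; exact Units.mul_inv _)
    intro i j hij
    fin_cases i <;> fin_cases j <;>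
      simp only [νν, Fin.zero_eta, Fin.mk_one, Matrix.cons_val_zero, Matrix.cons_val_one,
        MonoidHom.one_apply, Units.val_one] at hij ⊢ <;>
      first | rfl | exact absurd hij hy1 | exact absurd hij.symm hy1 | exact absurd hij hinv |
        exact absurd hij.symm hinv | exact absurd hij hne | exact absurd hij.symm hne
  let b : Basis (Fin 3) K (V ⧸ I) :=
    basisOfLinearIndependentOfCardEqFinrank hli (by simp [hQdim])
  have hb : ∀ i, b i = Submodule.Quotient.mk (vv i) := fun i => by simp [b]
  let R : G →* Matrix (Fin 3) (Fin 3) K :=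
    (LinearMap.toMatrixAlgEquiv b).toAlgHom.toMonoidHom.comp ρQ
  have hRapp : ∀ g, R g = LinearMap.toMatrix b b (ρQ g) := fun _ => rfl
  have hdiag : ∀ x : D.E,
      R (x : G) = Matrix.diagonal ![1, (D.sK K x : K), ((D.sK K x)⁻¹ : Kˣ).val] := by
    intro x
    ext i j
    rw [hRapp, LinearMap.toMatrix_apply, hb, hQeig _ _ (hvv j).1 x, ← hb, map_smul, b.repr_self,
      Finsupp.smul_apply, smul_eq_mul, Matrix.diagonal_apply, Finsupp.single_apply]
    by_cases hij : i = j
    · subst hij
      rw [if_pos rfl, if_pos rfl, mul_one]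
      fin_cases i <;> simp [νν]
    · rw [if_neg (Ne.symm hij), if_neg hij, mul_zero]
  have hne1 : R (y : G) ≠ 1 := fun h => hnontriv ((LinearMap.toMatrixAlgEquiv b).injective (by
    rw [map_one]; exact h))
  have hinj : Function.Injective R := by
    rw [← MonoidHom.ker_eq_bot_iff]
    refine (inferInstance : R.ker.Normal).eq_bot_or_eq_top.resolve_right fun h => hne1 ?_
    exact MonoidHom.mem_ker.mp (h ▸ Subgroup.mem_top (y : G))
  refine ⟨R, hinj, ?_, fun g => ?_, hdiag⟩
  · -- irreducibility
    refine ⟨⟨Pi.single 0 1, fun h => by simpa using congrFun h 0⟩, fun U hU => ?_⟩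
    by_contra hc
    push Not at hc
    obtain ⟨hUb, hUt⟩ := hc
    set σ := ModRep.matRep R with hσ
    let σU : Representation K G U :=
      { toFun := fun g => (σ g).restrict (hU g)
        map_one' := by ext v; simp
        map_mul' := fun g h => by ext v; simp }
    let σQ : Representation K G ((Fin 3 → K) ⧸ U) :=
      { toFun := fun g => U.mapQ U (σ g) (hU g)
        map_one' := by ext v; simp
        map_mul' := fun g h => by ext v; simp }
    have hsum := Submodule.finrank_quotient_add_finrank U
    rw [Module.finrank_fin_fun] at hsum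
    have hU1 : 1 ≤ finrank K U := Nat.one_le_iff_ne_zero.mpr fun h =>
      hUb (Submodule.finrank_eq_zero.mp h)
    have hU2 : finrank K U ≤ 2 := by
      by_contra h
      exact hUt (Submodule.eq_top_of_finrank_eq (by rw [Module.finrank_fin_fun]; omega))
    have htriv := rep_eq_one_of_unipotent hperf σ U (fun g w hw => by
        have := LinearMap.congr_fun
          (rep_eq_one_of_finrank_le_two hperf h2 heven σU hU2 g) ⟨w, hw⟩
        exact congrArg Subtype.val this) (fun g v => by
        have := LinearMap.congr_fun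
          (rep_eq_one_of_finrank_le_two hperf h2 heven σQ (by omega) g) (Submodule.Quotient.mk v)
        exact (Submodule.Quotient.eq U).mp this) (y : G)
    apply hne1
    apply Matrix.toLin'.injective
    rw [Matrix.toLin'_one]
    exact htriv
  · -- traces
    rw [hRapp, hRapp, ← LinearMap.trace_eq_matrix_trace, ← LinearMap.trace_eq_matrix_trace]
    have hQtr : ∀ g, LinearMap.trace K (V ⧸ I) (ρQ g) =
        LinearMap.trace K V (ρ g) - LinearMap.trace K I ((ρ g).restrict (hIinv g)) := fun g => by
      rw [trace_eq_add (ρ g) I (fun v hv => hIinv g v hv)]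
      rw [add_sub_cancel_left]
      rfl
    rw [hQtr, hQtr, hred.trace_inv]
    congr 1
    -- the sum-zero functions
    have hR0inv : ∀ g : G, ∀ f ∈ R0, Cfsg.permRep K G α g f ∈ R0 := fun g f hf =>
      (Cfsg.permSumZero K G α).apply_mem_toSubmodule g hf
    have hR0tr : ∀ g, LinearMap.trace K R0 ((Cfsg.permRep K G α g).restrict (hR0inv g)) =
        LinearMap.trace K (α → K) (Cfsg.permRep K G α g) - 1 := by
      intro g
      rw [trace_eq_add (Cfsg.permRep K G α g) R0 (fun f hf => hR0inv g f hf)]
      have hq : R0.mapQ R0 (Cfsg.permRep K G α g) (fun f hf => hR0inv g f hf) = 1 := by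
        refine LinearMap.ext fun z => ?_
        obtain ⟨f, rfl⟩ := Submodule.Quotient.mk_surjective R0 z
        rw [Submodule.mapQ_apply, Module.End.one_apply, Submodule.Quotient.eq, hR0mem]
        simp only [Pi.sub_apply, Finset.sum_sub_distrib, Perm.permRep_apply]
        rw [Perm.sum_inv_smul g f, sub_self]
      have h1 : finrank K ((α → K) ⧸ R0) = 1 := by
        have := Submodule.finrank_quotient_add_finrank R0
        rw [Module.finrank_fintype_fun_eq_card, D.hα] at this
        omega
      rw [hq, LinearMap.trace_one, h1, Nat.cast_one, add_sub_cancel_right]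
    let φ : R0 →ₗ[K] I := (F.comp R0.subtype).codRestrict I fun f => ⟨f.1, f.2, rfl⟩
    have hφsurj : Function.Surjective φ := by
      rintro ⟨_, f, hf, rfl⟩
      exact ⟨⟨f, hf⟩, rfl⟩
    obtain ⟨σ, hσ⟩ := φ.exists_rightInverse_of_surjective (LinearMap.range_eq_top.mpr hφsurj)
    have hItr : ∀ g, LinearMap.trace K R0 ((Cfsg.permRep K G α g).restrict (hR0inv g)) =
        LinearMap.trace K I ((ρ g).restrict (hIinv g)) + LinearMap.trace K R0 (1 - σ ∘ₗ φ) := by
      intro g
      set a := (Cfsg.permRep K G α g).restrict (hR0inv g) with ha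
      set c := (ρ g).restrict (hIinv g) with hc
      have hint : φ ∘ₗ a = c ∘ₗ φ := LinearMap.ext fun f => Subtype.ext
        (hF g f.1 ((hR0mem _).mp f.2))
      have hfix : a ∘ₗ (1 - σ ∘ₗ φ) = 1 - σ ∘ₗ φ := by
        refine LinearMap.ext fun f => Subtype.ext ?_
        set z := (1 - σ ∘ₗ φ : Module.End K R0) f with hz
        have hzW : z.1 ∈ W.toSubmodule := by
          refine ⟨z.2, ?_⟩
          have : φ z = 0 := by
            rw [hz, LinearMap.sub_apply, map_sub, Module.End.one_apply, LinearMap.comp_apply,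
              ← LinearMap.comp_apply, hσ, LinearMap.id_apply, sub_self]
          exact LinearMap.mem_ker.mpr (congrArg Subtype.val this)
        rw [hWc, Perm.mem_permConstants_iff] at hzW
        obtain ⟨d, hd⟩ := hzW
        show Cfsg.permRep K G α g z.1 = z.1
        rw [hd]
        rfl
      have e : a = (a ∘ₗ σ) ∘ₗ φ + a ∘ₗ (1 - σ ∘ₗ φ) := by
        rw [LinearMap.comp_sub, LinearMap.comp_assoc]
        ext f
        simp
      conv_lhs => rw [e, map_add, hfix]
      rw [LinearMap.trace_comp_comm', ← LinearMap.comp_assoc, hint, LinearMap.comp_assoc, hσ,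
        LinearMap.comp_id]
    have hfin : ∀ g, LinearMap.trace K (α → K) (Cfsg.permRep K G α g⁻¹) =
        LinearMap.trace K (α → K) (Cfsg.permRep K G α g) := by
      intro g
      rw [LinearMap.trace_eq_matrix_trace K (Pi.basisFun K α),
        LinearMap.trace_eq_matrix_trace K (Pi.basisFun K α), Matrix.trace, Matrix.trace]
      refine Finset.sum_congr rfl fun i _ => ?_
      simp only [Matrix.diag_apply, LinearMap.toMatrix_apply, Pi.basisFun_repr,
        Pi.basisFun_apply, Perm.permRep_single, Pi.single_apply]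
      congr 1
      exact propext ⟨fun h => by nth_rw 2 [h]; rw [smul_inv_smul],
        fun h => by nth_rw 2 [h]; rw [inv_smul_smul]⟩
    have e1 := hItr g
    have e2 := hItr g⁻¹
    rw [hR0tr] at e1 e2
    rw [hfin] at e2
    exact add_right_cancel (e1.symm.trans e2)

/-- The three-dimensional representation. -/
theorem exists_three {V : Type*} [AddCommGroup V] [Module K V] [FiniteDimensional K V]
    {ρ : Representation K G V} [Fintype D.E] [IsSimpleGroup G] (hperf : commutator G = ⊤)
    (heven : 2 ∣ Nat.card G) (he : 3 ≤ Nat.card D.E) (hred : D.IsRed ρ) :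
    ∃ R : G →* Matrix (Fin 3) (Fin 3) K, Function.Injective R ∧
      CurtisRichen82.Irred (ModRep.matRep R) ∧ (∀ g, (R g).trace = (R g⁻¹).trace) ∧
      ∀ x : D.E, R (x : G) = Matrix.diagonal ![1, (D.sK K x : K), ((D.sK K x)⁻¹ : Kˣ).val] := by
  rcases D.exists_good hred he with h | h
  · exact D.exists_three_of_good hperf heven he hred h
  · exact D.exists_three_of_good hperf heven he (IsRed.dual D hred) h

end Data

end Cfsg.Agent.PrimeDeg7
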