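import Cfsg.Agent.PrimeDeg7.Chars
import Cfsg.Agent.PrimeDeg7.Three
import Cfsg.Agent.PrimeDeg7.Rotation
import Cfsg.Agent.Lib.ModRep.BrauerChar

/-!
Reduction of the character of degree `p + 1` modulo `p`, and the point stabiliser.
-/

set_option autoImplicit false
set_option linter.unusedSectionVars false

namespace Cfsg.Agent.PrimeDeg7

open MulAction Module Matrix

variable {α : Type*} [Fintype α] [DecidableEq α] {p : ℕ} [hp : Fact p.Prime]
  {G : Subgroup (Equiv.Perm α)} [IsPretransitive G α] (D : Data p G)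

namespace Data

open ModRep in
/-- The modular three-dimensional representation. -/
theorem exists_field_three (he : 3 ≤ Nat.card D.E) [IsSimpleGroup G] :
    ∃ (Bv : ValuationSubring ℂ) (_ : CharP (Kf Bv) p)
      (R : G →* Matrix (Fin 3) (Fin 3) (Kf Bv)), Function.Injective R ∧
      CurtisRichen82.Irred (ModRep.matRep R) ∧ (∀ g, (R g).trace = (R g⁻¹).trace) ∧
      (∀ g ∈ Subgroup.normalizer (D.E : Set G), g ∉ D.E → ∀ x : D.E,
        g⁻¹ * (x : G) * g = (x : G)⁻¹) ∧
      ∀ x : D.E,
        R (x : G) = Matrix.diagonal ![1, (D.sK (Kf Bv) x : Kf Bv), ((D.sK (Kf Bv) x)⁻¹ : (Kf Bv)ˣ).val] := by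
  classical
  have := Fintype.ofFinite G
  have := Fintype.ofFinite D.E
  obtain ⟨M, hMmax, hMp⟩ : ∃ M : Ideal AlgInt, M.IsMaximal ∧ (p : AlgInt) ∈ M := by
    have hnu : ¬ IsUnit (p : AlgInt) := by
      intro hu
      obtain ⟨b, hb⟩ := hu.exists_right_inv
      have hb' : (b : ℂ) = (((p : ℚ)⁻¹ : ℚ) : ℂ) := by
        have h1 := congrArg (fun t : AlgInt => (t : ℂ)) hb
        simp only [MulMemClass.coe_mul, OneMemClass.coe_one] at h1
        push_cast
        exact eq_inv_of_mul_eq_one_right (by simpa using h1)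
      have hint : IsIntegral ℤ ((p : ℚ)⁻¹) := by
        refine (isIntegral_algHom_iff ((algebraMap ℚ ℂ).toIntAlgHom) (algebraMap ℚ ℂ).injective).mp ?_
        show IsIntegral ℤ ((((p : ℚ)⁻¹ : ℚ)) : ℂ)
        exact hb' ▸ b.2
      obtain ⟨m, hm⟩ := IsIntegrallyClosed.algebraMap_eq_of_integral hint
      have hp0 : (p : ℚ) ≠ 0 := Nat.cast_ne_zero.mpr hp.out.ne_zero
      have h2 : ((m * p : ℤ) : ℚ) = 1 := by
        push_cast
        rw [show (m : ℚ) = (p : ℚ)⁻¹ from hm, inv_mul_cancel₀ hp0]
      have h3 : (p : ℤ) ∣ 1 := ⟨m, by rw [mul_comm]; exact_mod_cast h2.symm⟩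
      have := Int.eq_one_of_dvd_one (by positivity) h3
      exact hp.out.one_lt.ne' (by exact_mod_cast this)
    obtain ⟨M, hM, hle⟩ := Ideal.exists_le_maximal (Ideal.span {(p : AlgInt)})
      (fun h => hnu (Ideal.span_singleton_eq_top.mp h))
    exact ⟨M, hM, hle (Ideal.mem_span_singleton_self _)⟩
  have hM : IsPModular p M := ⟨hp.out, hMmax, hMp⟩
  obtain ⟨Bv, hBv⟩ := exists_isPlace M
  have hchar := hBv.charP hM
  -- the lift of the action of the complement
  have hcard : ¬ p ∣ Nat.card D.E := fun h => D.card_E_ne (K := Kf Bv) (by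
    rw [Fintype.card_eq_nat_card]; exact (CharP.cast_eq_zero_iff (Kf Bv) p _).mpr h)
  have hroot : ∀ x : D.E, (D.sK (Kf Bv) x : Kf Bv) ^ Nat.card D.E = 1 := fun x => by
    rw [← Units.val_pow_eq_pow_val, ← map_pow, pow_card_eq_one', map_one, Units.val_one]
  choose z hz hzr hzl using fun x => lft_spec (Bv := Bv) hp.out hcard (hroot x)
  have hzuniq : ∀ (x : D.E) (w : Bv), w ^ Nat.card D.E = 1 →
      IsLocalRing.residue Bv w = (D.sK (Kf Bv) x : Kf Bv) → w = z x := fun x w hw hwr =>
    Subtype.ext (by rw [← lft_residue (Bv := Bv) hp.out hcard hw, hwr, hzl])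
  let L : D.E →* Bv :=
    { toFun := z
      map_one' := (hzuniq 1 1 (one_pow _) (by simp)).symm
      map_mul' := fun x y => (hzuniq (x * y) (z x * z y) (by rw [mul_pow, hz, hz, one_mul])
        (by rw [map_mul, hzr, hzr, map_mul, Units.val_mul])).symm }
  let ω : D.E →* ℂˣ := ((Bv.subtype : Bv →+* ℂ).toMonoidHom.comp L).toHomUnits
  have hω : ∀ x, (ω x : ℂ) = ((L x : Bv) : ℂ) := fun _ => rfl
  have hωinj : Function.Injective ω := fun x y h => D.sK_injective (K := Kf Bv) (Units.ext (by
    rw [← hzr x, ← hzr y]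
    refine congrArg _ (Subtype.ext ?_)
    exact congrArg Units.val h))
  obtain ⟨A, hA1, hAE, hAinv, hAdih⟩ := D.exists_chi_succ ω hωinj he
  obtain ⟨n, ρ, -, hρ⟩ := A.2
  obtain ⟨b, RB, hRB⟩ := exists_form ρ Bv
  have htr : ∀ g, (((RB g).trace : Bv) : ℂ) = (A : G → ℂ) g := fun g => by
    rw [← congrFun hρ g, Representation.character, LinearMap.trace_eq_matrix_trace ℂ b, ← hRB]
    exact (AddMonoidHom.map_trace (Bv.subtype : Bv →+* ℂ).toAddMonoidHom (RB g))
  let RK : G →* Matrix (Fin n) (Fin n) (Kf Bv) :=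
    (IsLocalRing.residue Bv).mapMatrix.toMonoidHom.comp RB
  have htrK : ∀ g, LinearMap.trace (Kf Bv) _ (matRep RK g) =
      IsLocalRing.residue Bv (RB g).trace := fun g => by
    rw [matRep_apply, Matrix.trace_toLin'_eq]
    exact (AddMonoidHom.map_trace (IsLocalRing.residue Bv).toAddMonoidHom (RB g)).symm
  have hn : n = p + 1 := by
    have h := congrFun hρ 1
    rw [Representation.char_one, Module.finrank_fin_fun, hA1] at h
    exact_mod_cast h
  have hred : D.IsRed (matRep RK) := by
    refine ⟨by rw [Module.finrank_fin_fun, hn], fun x hx => ?_, fun g => ?_⟩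
    · rw [htrK, show (RB (x : G)).trace = L x + L x⁻¹ from ?_, map_add]
      · show IsLocalRing.residue Bv (z x) + IsLocalRing.residue Bv (z x⁻¹) = _
        rw [hzr, hzr, map_inv]
      · apply Subtype.ext
        rw [htr, hAE x hx, ← map_inv ω x, hω, hω]
        rfl
    · rw [htrK, htrK]
      exact congrArg _ (Subtype.ext (by rw [htr, htr, hAinv]))
  have heven : 2 ∣ Nat.card G := by
    refine dvd_trans ?_ (Subgroup.card_subgroup_dvd_card (Subgroup.normalizer (D.E : Set G)))
    rw [D.card_norm]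
    exact dvd_mul_right 2 _
  obtain ⟨R, hR1, hR2, hR3, hR4⟩ := D.exists_three (K := Kf Bv) D.perfect heven he hred
  exact ⟨Bv, hchar, R, hR1, hR2, hR3, hAdih, hR4⟩

/-- The orders of a point stabiliser and of the complement. -/
theorem stab_list (he : 3 ≤ Nat.card D.E) :
    let e := Nat.card D.E
    let h := Nat.card (stabilizer G D.a)
    h = 2 * e ∨ (e = 3 ∧ (h = 12 ∨ h = 24 ∨ h = 60)) ∨ (e = 4 ∧ h = 24) ∨ (e = 5 ∧ h = 60) := by
  intro e h
  classical
  have := D.isSimple
  obtain ⟨Bv, hchar, R, hinj, hirr, htr, hdih, hdiag⟩ := D.exists_field_three he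
  set K := ModRep.Kf Bv with hK
  have h5 := D.five_le
  have h2 : (2 : K) ≠ 0 := by
    rw [← Nat.cast_ofNat, ne_eq, CharP.cast_eq_zero_iff K p]
    intro h
    have := Nat.le_of_dvd two_pos h
    omega
  have hdet : ∀ g, (R g).det = 1 := fun g => by
    have := det_rep_eq_one D.perfect (ModRep.matRep R) g
    rwa [ModRep.matRep_apply, LinearMap.det_toLin'] at this
  obtain ⟨B, hBs, hB, hinv⟩ := exists_symm_form h2 (n := 3) (by decide) R hirr htr
  obtain ⟨y, hy⟩ := D.exists_E_gen
  obtain ⟨hy1, hy2⟩ := D.sK_pow_ne (K := K) hy he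
  set H := stabilizer G D.a with hH
  set S := D.E.subgroupOf H with hS
  -- the form in the eigenbasis of the complement
  set s : K := (D.sK K y : K) with hs
  have hsi : ((D.sK K y)⁻¹ : Kˣ).val = s⁻¹ := Units.val_inv_eq_inv_val _
  have hs0 : s ≠ 0 := Units.ne_zero _
  have hRy : R (y : G) = diagonal ![1, s, s⁻¹] := by rw [hdiag y, hsi]
  have hij : ∀ i j, ![1, s, s⁻¹] i * B i j * ![1, s, s⁻¹] j = B i j := fun i j => by
    have h := congrFun (congrFun (hinv (y : G)) i) j
    rwa [hRy, diagonal_transpose, mul_diagonal, diagonal_mul] at h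
  have B01 : B 0 1 = 0 := by
    have h : 1 * B 0 1 * s = B 0 1 := hij 0 1
    have h' : (s - 1) * B 0 1 = 0 := by linear_combination h
    exact (mul_eq_zero.mp h').resolve_left (sub_ne_zero.mpr hy1)
  have B02 : B 0 2 = 0 := by
    have h : 1 * B 0 2 * s⁻¹ = B 0 2 := hij 0 2
    have h' : (s⁻¹ - 1) * B 0 2 = 0 := by linear_combination h
    exact (mul_eq_zero.mp h').resolve_left (sub_ne_zero.mpr fun h1 => hy1 (inv_eq_one.mp h1))
  have B11 : B 1 1 = 0 := by
    have h : s * B 1 1 * s = B 1 1 := hij 1 1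
    have h' : (s * s - 1) * B 1 1 = 0 := by linear_combination h
    exact (mul_eq_zero.mp h').resolve_left (sub_ne_zero.mpr hy2)
  have B22 : B 2 2 = 0 := by
    have h : s⁻¹ * B 2 2 * s⁻¹ = B 2 2 := hij 2 2
    have hss : s * s⁻¹ = 1 := mul_inv_cancel₀ hs0
    have h' : (s * s - 1) * B 2 2 = 0 := by
      linear_combination -(s * s) * h + B 2 2 * (s * s⁻¹ + 1) * hss
    exact (mul_eq_zero.mp h').resolve_left (sub_ne_zero.mpr hy2)
  have hsym : ∀ i j, B i j = B j i := fun i j => by
    conv_lhs => rw [← hBs]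
    rfl
  have hb : B 0 0 ≠ 0 ∧ B 1 2 ≠ 0 := by
    have hd : B.det = -(B 0 0 * B 1 2 * B 1 2) := by
      rw [Matrix.det_fin_three, hsym 1 0, hsym 2 0, hsym 2 1, B01, B02, B11, B22]
      ring
    constructor <;> intro h0 <;> exact hB (by rw [hd, h0]; ring)
  have hSmem : ∀ g : H, R (g : G) *ᵥ Pi.single 0 1 = Pi.single 0 1 ↔ g ∈ S := by
    intro g
    constructor
    · intro hg
      have hcol : ∀ i, R (g : G) i 0 = (Pi.single 0 1 : Fin 3 → K) i := fun i => by
        have := congrFun hg i
        rwa [mulVec_single_one] at this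
      have c00 : R (g : G) 0 0 = 1 := by rw [hcol]; simp
      have c10 : R (g : G) 1 0 = 0 := by rw [hcol]; simp
      have c20 : R (g : G) 2 0 = 0 := by rw [hcol]; simp
      have hM := hinv (g : G)
      have hd := hdet (g : G)
      rw [Matrix.det_fin_three, c00, c10, c20] at hd
      have e01 := congrFun (congrFun hM 0) 1
      have e02 := congrFun (congrFun hM 0) 2
      have e11 := congrFun (congrFun hM 1) 1
      have e22 := congrFun (congrFun hM 2) 2
      have e12 := congrFun (congrFun hM 1) 2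
      simp only [mul_apply, transpose_apply, Fin.sum_univ_three, c00, c10, c20, hsym 1 0, hsym 2 0,
        hsym 2 1, B01, B02, B11, B22, mul_zero, zero_mul, add_zero, zero_add, one_mul]
        at e01 e02 e11 e22 e12
      have g01 : R (g : G) 0 1 = 0 := by
        rcases mul_eq_zero.mp e01 with h | h
        · exact absurd h hb.1
        · exact h
      have g02 : R (g : G) 0 2 = 0 := by
        rcases mul_eq_zero.mp e02 with h | h
        · exact absurd h hb.1
        · exact h
      rw [g01] at e11 e12 hd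
      rw [g02] at e22 e12 hd
      have q : R (g : G) 1 2 * R (g : G) 2 1 = 0 := by
        have hp' : R (g : G) 1 1 * R (g : G) 2 2 + R (g : G) 2 1 * R (g : G) 1 2 = 1 :=
          mul_left_cancel₀ hb.2 (by linear_combination e12)
        have : (2 : K) * (R (g : G) 1 2 * R (g : G) 2 1) = 0 := by linear_combination hp' - hd
        exact (mul_eq_zero.mp this).resolve_left h2
      have hpr : R (g : G) 1 1 * R (g : G) 2 2 = 1 := by linear_combination hd + q
      have g21 : R (g : G) 2 1 = 0 := by
        have : (2 : K) * B 1 2 * (R (g : G) 2 1) = 0 := by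
          linear_combination R (g : G) 2 2 * e11 -
            (2 : K) * B 1 2 * R (g : G) 2 1 * hpr
        exact (mul_eq_zero.mp this).resolve_left (mul_ne_zero h2 hb.2)
      have g12 : R (g : G) 1 2 = 0 := by
        have : (2 : K) * B 1 2 * (R (g : G) 1 2) = 0 := by
          linear_combination R (g : G) 1 1 * e22 -
            (2 : K) * B 1 2 * R (g : G) 1 2 * hpr
        exact (mul_eq_zero.mp this).resolve_left (mul_ne_zero h2 hb.2)
      have hgd : R (g : G) = diagonal ![1, R (g : G) 1 1, R (g : G) 2 2] := by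
        ext i j
        fin_cases i <;> fin_cases j <;> simp [diagonal, c00, c10, c20, g01, g02, g12, g21]
      have hcomm : (g : G) * (y : G) = (y : G) * (g : G) := hinj (by
        rw [map_mul, map_mul, hgd, hRy, diagonal_mul_diagonal, diagonal_mul_diagonal]
        congr 1; funext i; exact mul_comm _ _)
      have hy' : (y : D.E) ≠ 1 := fun h => hy1 (by rw [hs, h, map_one]; rfl)
      have hgT : (g : G) ∈ Subgroup.normalizer (D.E : Set G) :=
        D.ti (y : G) y.2 (fun h => hy' (Subtype.ext h)) (g : G) (by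
          rw [hcomm, mul_inv_cancel_right]; exact y.2)
      by_contra hgE
      -- otherwise `g` would both centralise and invert the generator
      have hinv' := hdih (g : G) hgT hgE y
      rw [mul_assoc, ← hcomm, inv_mul_cancel_left] at hinv'
      apply hy2
      have hyy : y * y = 1 := Subtype.ext (by
        rw [Subgroup.coe_mul, OneMemClass.coe_one]
        nth_rw 1 [hinv']
        exact inv_mul_cancel _)
      rw [hs, ← Units.val_mul, ← map_mul, hyy, map_one, Units.val_one]
    · intro hg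
      have hx := hdiag ⟨(g : G), hg⟩
      simp only at hx
      rw [hx, mulVec_single_one]
      funext i
      fin_cases i <;> simp [diagonal]
  obtain ⟨w, hwH, hwE⟩ : ∃ w ∈ H, w ∉ D.E := by
    obtain ⟨w, hwT, hwE⟩ : ∃ w ∈ Subgroup.normalizer (D.E : Set G), w ∉ D.E := by
      by_contra hc
      push Not at hc
      have := D.card_norm
      rw [le_antisymm hc Subgroup.le_normalizer] at this
      omega
    refine ⟨w, ?_, hwE⟩
    obtain ⟨j, hj⟩ := D.pt.surjective (w • D.a)
    have hy' : (y : D.E) ≠ 1 := fun h => hy1 (by rw [hs, h, map_one]; rfl)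
    have hmem : w⁻¹ * (y : G) * w ∈ D.E := by
      have := (Subgroup.mem_normalizer_iff.mp hwT (w⁻¹ * (y : G) * w)).mpr (by
        simp [mul_assoc])
      exact this
    have hfix : (y : G) • D.pt j = D.pt j := by
      rw [hj]
      have h0 : (w⁻¹ * (y : G) * w) • D.a = D.a := D.E_le_stab hmem
      rwa [mul_smul, mul_smul, inv_smul_eq_iff] at h0
    rw [hH, mem_stabilizer_iff, ← hj, (D.fix_iff hy' j).mp hfix]
    rfl
  have hcardS : Nat.card S = e :=
    Nat.card_congr (Subgroup.subgroupOfEquivOfLe D.E_le_stab).toEquiv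
  have hlt : Nat.card S < Nat.card H := by
    refine lt_of_le_of_ne (Nat.le_of_dvd Nat.card_pos (Subgroup.card_subgroup_dvd_card S)) fun he' => ?_
    have := Subgroup.eq_top_of_card_eq S he'
    exact hwE (show (⟨w, hwH⟩ : H) ∈ S from this ▸ Subgroup.mem_top _)
  have hH0 : (Nat.card H : K) ≠ 0 := by
    rw [ne_eq, CharP.cast_eq_zero_iff K p]; exact D.not_dvd_stab
  have hlist := rotation_list h2 hH0 (R.comp H.subtype)
    (hinj.comp Subtype.val_injective) (fun g => hdet _) B hBs hB (fun g => hinv _)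
    (Pi.single 0 1) S hSmem (fun h0 => by simpa using congrFun h0 0)
    (by rw [hcardS]; exact he) hlt
  rw [hcardS] at hlist
  exact hlist

end Data

end Cfsg.Agent.PrimeDeg7
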