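import Cfsg.Prelude.Def_Blocks
import Cfsg.Agent.Lib.Perm.PrimeDegreeOrders
import Cfsg.Agent.Lib.CharCore.Linear
import Cfsg.Agent.Lib.CharCore.Complete

/-!
The configuration of the degree seven/eleven theorem.
-/

set_option autoImplicit false
set_option linter.unusedSectionVars false

namespace Cfsg.Agent.PrimeDeg7

open MulAction

/-- The configuration in coordinates. -/
structure Data (p : ℕ) {α : Type*} [Fintype α] [DecidableEq α] (G : Subgroup (Equiv.Perm α)) where
  /-- a generator of the Sylow subgroup -/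
  u : G
  /-- the complement -/
  E : Subgroup G
  /-- coordinates -/
  pt : ZMod p ≃ α
  /-- the action of the complement -/
  s : E →* (ZMod p)ˣ
  orderOf_u : orderOf u = p
  u_smul : ∀ i, u • pt i = pt (i + 1)
  E_smul : ∀ (x : E) i, (x : G) • pt i = pt ((s x : ZMod p) * i)
  s_inj : Function.Injective s
  decomp : ∀ g ∈ Subgroup.normalizer ((Subgroup.zpowers u : Subgroup G) : Set G),
    ∃ x : E, ∃ i : ℕ, g = (x : G) * u ^ i
  two_le : 2 ≤ Nat.card E
  card_norm : Nat.card (Subgroup.normalizer (E : Set G)) = 2 * Nat.card E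
  ti : ∀ x ∈ E, x ≠ 1 → ∀ g : G, g * x * g⁻¹ ∈ E → g ∈ Subgroup.normalizer (E : Set G)
  five_le : 5 ≤ p
  uniq : ∃! χ : Cfsg.IrrCharacter G, Cfsg.charDegree (χ : G → ℂ) = p

variable {α : Type*} [Fintype α] [DecidableEq α] {p : ℕ} [hp : Fact p.Prime]
  {G : Subgroup (Equiv.Perm α)}

theorem charDegree_sq_le (χ : Cfsg.IrrCharacter G) :
    Cfsg.charDegree (χ : G → ℂ) ^ 2 ≤ Nat.card G := by
  classical
  have := Fintype.ofFinite G
  have := Fintype.ofFinite (Cfsg.IrrCharacter G)
  have hd : ∀ θ : Cfsg.IrrCharacter G, (θ : G → ℂ) 1 = (Cfsg.charDegree (θ : G → ℂ) : ℂ) := by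
    intro θ
    obtain ⟨n, -, hn⟩ := CharCore.IsIrrCharacter.exists_degree θ.2
    rw [Cfsg.charDegree, hn]
    simp
  have hsum : ∑ θ : Cfsg.IrrCharacter G, Cfsg.charDegree (θ : G → ℂ) ^ 2 = Nat.card G := by
    have h := CharCore.sum_degree_sq (G := G)
    simp only [hd] at h
    convert (by exact_mod_cast h : _ = Nat.card G) using 2
    exact Finset.ext fun _ => by simp
  rw [← hsum]
  exact Finset.single_le_sum (f := fun θ : Cfsg.IrrCharacter G => Cfsg.charDegree (θ : G → ℂ) ^ 2)
    (fun _ _ => Nat.zero_le _) (Finset.mem_univ χ)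

/-- The data of the theorem give the coordinates. -/
theorem exists_data (hα : Fintype.card α = p) [IsPretransitive G α]
    (huniq : ∃! χ : Cfsg.IrrCharacter G, Cfsg.charDegree (χ : G → ℂ) = p) (P : Sylow p G)
    (E : Subgroup G)
    (hPE : (P : Subgroup G) ⊔ E = Subgroup.normalizer ((P : Subgroup G) : Set G))
    (hPE' : (P : Subgroup G) ⊓ E = ⊥)
    (hNE : Nat.card (Subgroup.normalizer (E : Set G)) = 2 * Nat.card E)
    (hTI : ∀ g : G, g ∉ Subgroup.normalizer (E : Set G) →
      E ⊓ E.map (MulAut.conj g).toMonoidHom = ⊥) :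
    ∃ D : Data p G, D.E = E ∧ Subgroup.zpowers D.u = (P : Subgroup G) := by
  have hns : ¬ Group.IsSolvable G := fun hs => by
    have hN := Perm.PrimeDeg.normal_sylow_of_isSolvable hα hs P
    have h := Perm.PrimeDeg.card_normalizer_dvd hα P
    rw [Subgroup.normalizer_eq_top, Subgroup.card_top] at h
    obtain ⟨χ, hχ, -⟩ := huniq
    have h2 := charDegree_sq_le χ
    rw [hχ] at h2
    have h3 := Nat.le_of_dvd (by have := hp.out.two_le; exact Nat.mul_pos (by omega) (by omega)) h
    have : p * p ≤ p * (p - 1) := by rw [← pow_two]; exact h2.trans h3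
    have := Nat.le_of_mul_le_mul_left this hp.out.pos
    have := hp.out.two_le
    omega
  have h5 := Perm.PrimeDeg.five_le_of_not_isSolvable hα hns
  obtain ⟨τ, e, he, hτ, hP⟩ := Perm.PrimeDeg.exists_coord_of_sylow hα P
  have hEN : E ≤ Subgroup.normalizer ((P : Subgroup G) : Set G) := hPE ▸ le_sup_right
  have haff : ∀ x : E, ∃ j : ℕ, ∀ i, Perm.PrimeDeg.conjPerm e (x : G) i =
      Perm.PrimeDeg.conjPerm e (x : G) 0 + (j : ZMod p) * i := by
    intro x
    have hmem : (x : G) * τ * (x : G)⁻¹ ∈ Subgroup.zpowers τ := by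
      rw [← hP]
      exact (Subgroup.mem_normalizer_iff.mp (hEN x.2) τ).mp (hP ▸ Subgroup.mem_zpowers τ)
    obtain ⟨j, hj⟩ := (isOfFinOrder_of_finite τ).mem_powers_iff_mem_zpowers.mpr hmem
    exact ⟨j, Perm.PrimeDeg.conjPerm_add_one_of_normalizes he hj.symm⟩
  choose j hj using haff
  let A : E →* ZMod p :=
    { toFun := fun x => (j x : ZMod p)
      map_one' := by
        have h := hj 1 1
        simp only [OneMemClass.coe_one, Perm.PrimeDeg.conjPerm_one, mul_one, zero_add] at h
        exact h.symm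
      map_mul' := fun x y => by
        have h1 := hj (x * y) 1
        have h0 := hj (x * y) 0
        rw [Subgroup.coe_mul, Perm.PrimeDeg.conjPerm_mul, Perm.PrimeDeg.conjPerm_mul,
          hj x (Perm.PrimeDeg.conjPerm e (y : G) 1), hj x (Perm.PrimeDeg.conjPerm e (y : G) 0),
          hj y 1] at h1
        linear_combination -h1 }
  let s := A.toHomUnits
  have hs : ∀ x : E, (s x : ZMod p) = j x := fun _ => rfl
  have hpow : ∀ (n : ℕ) i, τ ^ n • e i = e (i + n) := by
    intro n
    induction n with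
    | zero => intro i; simp
    | succ n ih => intro i; rw [pow_succ', mul_smul, ih, he]; congr 1; push_cast; ring
  have sinj : Function.Injective s := by
    rw [injective_iff_map_eq_one]
    intro x hx
    have hx' : (j x : ZMod p) = 1 := by rw [← hs, hx]; rfl
    set c := Perm.PrimeDeg.conjPerm e (x : G) 0 with hc
    have he' : (x : G) = τ ^ c.val := by
      apply Perm.PrimeDeg.conjPerm_injective e
      ext1 i
      apply e.injective
      rw [← Perm.PrimeDeg.apply_coord, ← Perm.PrimeDeg.apply_coord, hpow, ZMod.natCast_zmod_val,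
        Perm.PrimeDeg.apply_coord, hj x i, hx', one_mul, ← hc, add_comm]
    have : (x : G) ∈ (P : Subgroup G) ⊓ E :=
      ⟨by rw [he', hP]; exact pow_mem (Subgroup.mem_zpowers τ) _, x.2⟩
    rw [hPE'] at this
    exact Subtype.ext this
  have htwo : 2 ≤ Nat.card E := by
    by_contra hc
    have hbot : E = ⊥ := Subgroup.eq_bot_of_card_le E (by omega)
    subst hbot
    have htop : Subgroup.normalizer (((⊥ : Subgroup G)) : Set G) = ⊤ :=
      Subgroup.normalizer_eq_top _
    rw [htop, Subgroup.card_top, Subgroup.card_bot] at hNE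
    have := Nat.le_of_dvd Nat.card_pos (Perm.PrimeDeg.prime_dvd_card (G := G) hα)
    omega
  have : IsCyclic E := isCyclic_of_injective_ringHom
    ((Units.coeHom (ZMod p)).comp s) (Units.val_injective.comp sinj)
  obtain ⟨y, hy⟩ := IsCyclic.exists_generator (α := E)
  have hsy : (s y : ZMod p) ≠ 1 := by
    intro h
    have hy1 : y = 1 := sinj (by rw [map_one]; exact Units.ext h)
    have : Subsingleton E := ⟨fun a b => by
      obtain ⟨m, rfl⟩ := hy a
      obtain ⟨n, rfl⟩ := hy b
      simp [hy1]⟩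
    have := Finite.card_le_one_iff_subsingleton.mpr this
    omega
  -- the common fixed point
  set c := Perm.PrimeDeg.conjPerm e (y : G) 0 with hc
  let f : ZMod p := c / (1 - (s y : ZMod p))
  have hf : (y : G) • e f = e f := by
    rw [Perm.PrimeDeg.apply_coord, hj y f, ← hc, ← hs]
    congr 1
    have : (1 : ZMod p) - (s y : ZMod p) ≠ 0 := sub_ne_zero.mpr (Ne.symm hsy)
    simp only [f]
    field_simp
    ring
  have hfix : ∀ x : E, (x : G) • e f = e f := by
    intro x
    obtain ⟨m, rfl⟩ := (isOfFinOrder_of_finite y).mem_powers_iff_mem_zpowers.mpr (hy x)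
    induction m with
    | zero => exact one_smul G (e f)
    | succ m ih =>
      show ((y ^ (m + 1) : E) : G) • e f = e f
      rw [pow_succ', Subgroup.coe_mul, mul_smul]
      rw [show ((y ^ m : E) : G) • e f = e f from ih, hf]
  let pt : ZMod p ≃ α := (Equiv.addLeft f).trans e
  refine ⟨
    { u := τ, E := E, pt := pt, s := s, orderOf_u := hτ, u_smul := fun i => ?_,
      E_smul := fun x i => ?_, s_inj := sinj, decomp := fun g hg => ?_, two_le := htwo,
      card_norm := hNE, ti := fun x hx hx1 g hg => ?_, five_le := h5, uniq := huniq },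
    rfl, hP.symm⟩
  · show τ • e (f + i) = e (f + (i + 1))
    rw [he, add_assoc]
  · show (x : G) • e (f + i) = e (f + (s x : ZMod p) * i)
    have h1 := Perm.PrimeDeg.apply_coord e (x : G) f
    rw [hfix x] at h1
    rw [Perm.PrimeDeg.apply_coord, hj x (f + i), hs]
    congr 1
    linear_combination (-1 : ZMod p) * ((e.injective h1).trans (hj x f))
  · rw [← hP] at hg
    rw [← hPE, sup_comm, ← SetLike.mem_coe,
      Subgroup.coe_mul_of_left_le_normalizer_right E (P : Subgroup G) hEN] at hg
    obtain ⟨x, hx, v, hv, rfl⟩ := hg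
    rw [hP] at hv
    obtain ⟨i, rfl⟩ := (isOfFinOrder_of_finite τ).mem_powers_iff_mem_zpowers.mpr hv
    exact ⟨⟨x, hx⟩, i, rfl⟩
  · by_contra hgn
    have h := hTI g hgn
    have hmem : g * x * g⁻¹ ∈ E ⊓ E.map (MulAut.conj g).toMonoidHom :=
      ⟨hg, Subgroup.mem_map.mpr ⟨x, hx, rfl⟩⟩
    rw [h, Subgroup.mem_bot] at hmem
    exact hx1 (conj_eq_one_iff.mp hmem)

namespace Data

variable (D : Data p G)

/-- The fixed point of the complement. -/
def a : α := D.pt 0

/-- The multiplier in a field of characteristic `p`. -/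
noncomputable def k : ℕ := (p - 1) / Nat.card D.E

theorem pow_smul (n : ℕ) (i : ZMod p) : D.u ^ n • D.pt i = D.pt (i + n) := by
  induction n generalizing i with
  | zero => simp
  | succ n ih => rw [pow_succ', mul_smul, ih, D.u_smul]; congr 1; push_cast; ring

theorem u_pow_p : D.u ^ p = 1 := by
  have h := pow_orderOf_eq_one D.u
  rwa [D.orderOf_u] at h

theorem pow_eq_pow {m n : ℕ} (h : (m : ZMod p) = n) : D.u ^ m = D.u ^ n := by
  rw [← pow_mod_orderOf, ← pow_mod_orderOf D.u n, D.orderOf_u,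
    (ZMod.natCast_eq_natCast_iff' m n p).mp h]

theorem hα (D : Data p G) : Fintype.card α = p := by
  rw [← Fintype.card_congr D.pt, ZMod.card]

theorem eq_of_smul {g h : G} (H : ∀ i, g • D.pt i = h • D.pt i) : g = h := by
  apply Subtype.ext
  ext x
  obtain ⟨i, rfl⟩ := D.pt.surjective x
  exact H i

theorem conj_pow (x : D.E) (n : ℕ) :
    (x : G) * D.u ^ n * (x : G)⁻¹ = D.u ^ ((D.s x : ZMod p) * n).val := by
  rw [mul_inv_eq_iff_eq_mul]
  refine D.eq_of_smul fun i => ?_
  rw [mul_smul, mul_smul, D.pow_smul, D.E_smul, D.E_smul, D.pow_smul, ZMod.natCast_zmod_val]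
  congr 1
  ring

theorem card_E_dvd : Nat.card D.E ∣ p - 1 := by
  have := Subgroup.card_dvd_of_injective D.s D.s_inj
  rwa [Nat.card_eq_fintype_card (α := (ZMod p)ˣ), ZMod.card_units] at this

theorem k_mul : D.k * Nat.card D.E = p - 1 := Nat.div_mul_cancel D.card_E_dvd

theorem s_ne_one {x : D.E} (hx : x ≠ 1) : (D.s x : ZMod p) ≠ 1 := fun h =>
  hx (D.s_inj (by rw [map_one]; exact Units.ext h))

theorem fix_iff {x : D.E} (hx : x ≠ 1) (i : ZMod p) : (x : G) • D.pt i = D.pt i ↔ i = 0 := by
  rw [D.E_smul, D.pt.injective.eq_iff]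
  constructor
  · intro h
    have h1 : ((D.s x : ZMod p) - 1) * i = 0 := by rw [sub_mul, one_mul, h, sub_self]
    exact (mul_eq_zero.mp h1).resolve_left (sub_ne_zero.mpr (D.s_ne_one hx))
  · rintro rfl; rw [mul_zero]

theorem E_le_stab : D.E ≤ stabilizer G D.a := fun x hx => by
  show x • D.pt 0 = D.pt 0
  rw [show x • D.pt 0 = D.pt _ from D.E_smul ⟨x, hx⟩ 0, mul_zero]

theorem card_G [IsPretransitive G α] : Nat.card G = p * Nat.card (stabilizer G D.a) := by
  rw [← Subgroup.index_mul_card (stabilizer G D.a), index_stabilizer_of_transitive,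
    Nat.card_eq_fintype_card, D.hα]

theorem not_dvd_stab [IsPretransitive G α] : ¬ p ∣ Nat.card (stabilizer G D.a) := fun h =>
  Perm.PrimeDeg.not_sq_dvd_card (G := G) D.hα (by
    rw [D.card_G, pow_two]; exact Nat.mul_dvd_mul_left p h)

/-- The Sylow subgroup. -/
noncomputable def sylow [IsPretransitive G α] : Sylow p G :=
  Sylow.ofCard (Subgroup.zpowers D.u) (by
    rw [Nat.card_zpowers, D.orderOf_u, D.card_G,
      Nat.factorization_mul hp.out.ne_zero Nat.card_pos.ne', Finsupp.add_apply,
      hp.out.factorization_self, Nat.factorization_eq_zero_of_not_dvd D.not_dvd_stab, add_zero,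
      pow_one])

theorem exists_E_gen : ∃ y : D.E, ∀ x : D.E, ∃ n : ℕ, y ^ n = x := by
  have : IsCyclic D.E := isCyclic_of_injective_ringHom
    ((Units.coeHom (ZMod p)).comp D.s) (Units.val_injective.comp D.s_inj)
  obtain ⟨y, hy⟩ := IsCyclic.exists_generator (α := D.E)
  exact ⟨y, fun x => (isOfFinOrder_of_finite y).mem_powers_iff_mem_zpowers.mpr (hy x)⟩

theorem E_comm (x y : D.E) : x * y = y * x := D.s_inj (by rw [map_mul, map_mul, mul_comm])

end Data

end Cfsg.Agent.PrimeDeg7
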