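import Mathlib
import Cfsg.Agent.Lib.ModRep.BrauerChar
import Cfsg.Agent.CurtisRichen82.Count

/-!
Linear algebra for the degree seven/eleven theorem: weight projections, nilpotent ranks, small
representations of perfect groups, invariant forms from real traces.
-/

set_option autoImplicit false

namespace Cfsg.Agent.PrimeDeg7

open Module

variable {K : Type*} [Field K]

section proj

variable {A : Type*} [Group A] [Fintype A] {V : Type*} [AddCommGroup V] [Module K V]

/-- The projection on the `ν`-weight space. -/
noncomputable def wproj (ρ : Representation K A V) (ν : A →* Kˣ) : V →ₗ[K] V :=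
  (Fintype.card A : K)⁻¹ • ∑ x : A, ((ν x)⁻¹ : Kˣ).val • ρ x

variable {ρ : Representation K A V} {ν : A →* Kˣ}

theorem wproj_apply (v : V) :
    wproj ρ ν v = (Fintype.card A : K)⁻¹ • ∑ x : A, ((ν x)⁻¹ : Kˣ).val • ρ x v := by
  simp [wproj, LinearMap.sum_apply]

theorem wproj_mem (x : A) (v : V) : ρ x (wproj ρ ν v) = (ν x).val • wproj ρ ν v := by
  classical
  have h : ρ x (∑ y : A, ((ν y)⁻¹ : Kˣ).val • ρ y v) =
      (ν x).val • ∑ y : A, ((ν y)⁻¹ : Kˣ).val • ρ y v := by
    rw [map_sum, Finset.smul_sum]
    refine Fintype.sum_equiv (Equiv.mulLeft x) _ _ fun y => ?_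
    simp only [map_smul, Equiv.coe_mulLeft, map_mul, Module.End.mul_apply, smul_smul]
    congr 1
    rw [← Units.val_mul, mul_inv_rev, mul_comm (ν y)⁻¹, mul_inv_cancel_left]
  rw [wproj_apply, map_smul, h, smul_comm]

theorem wproj_eq_self (hA : (Fintype.card A : K) ≠ 0) {v : V}
    (h : ∀ x, ρ x v = (ν x).val • v) : wproj ρ ν v = v := by
  rw [wproj_apply, Finset.sum_congr rfl fun x _ => by
      rw [h x, smul_smul, ← Units.val_mul, inv_mul_cancel, Units.val_one, one_smul],
    Finset.sum_const, Finset.card_univ, ← Nat.cast_smul_eq_nsmul K, smul_smul, inv_mul_cancel₀ hA,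
    one_smul]

/-- The weight space. -/
noncomputable def wspace (ρ : Representation K A V) (ν : A →* Kˣ) : Submodule K V :=
  LinearMap.range (wproj ρ ν)

theorem mem_wspace (hA : (Fintype.card A : K) ≠ 0) {v : V} :
    v ∈ wspace ρ ν ↔ ∀ x, ρ x v = (ν x).val • v := by
  refine ⟨?_, fun h => ⟨v, wproj_eq_self hA h⟩⟩
  rintro ⟨w, rfl⟩ x
  exact wproj_mem x w

theorem wproj_isProj (hA : (Fintype.card A : K) ≠ 0) :
    LinearMap.IsProj (wspace ρ ν) (wproj ρ ν) :=
  ⟨fun v => ⟨v, rfl⟩, fun _ hv => wproj_eq_self hA ((mem_wspace hA).mp hv)⟩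

theorem natCast_finrank_wspace [FiniteDimensional K V] (hA : (Fintype.card A : K) ≠ 0) :
    (finrank K (wspace ρ ν) : K) =
      (Fintype.card A : K)⁻¹ * ∑ x : A, ((ν x)⁻¹ : Kˣ).val * LinearMap.trace K V (ρ x) := by
  rw [← (wproj_isProj (ρ := ρ) (ν := ν) hA).trace, wproj, map_smul, map_sum, smul_eq_mul]
  simp only [map_smul, smul_eq_mul]

theorem disjoint_wspace (hA : (Fintype.card A : K) ≠ 0) {μ : A →* Kˣ} (h : ν ≠ μ) :
    Disjoint (wspace ρ ν) (wspace ρ μ) := by
  rw [Submodule.disjoint_def]
  intro v h1 h2
  by_contra hv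
  refine h (MonoidHom.ext fun x => Units.ext (smul_left_injective K hv ?_))
  exact ((mem_wspace hA).mp h1 x).symm.trans ((mem_wspace hA).mp h2 x)

/-- A map intertwining two representations up to a linear character shifts weight projections. -/
theorem wproj_comp {W : Type*} [AddCommGroup W] [Module K W] {σ : Representation K A W}
    {μ θ : A →* Kˣ} (f : V →ₗ[K] W) (hf : ∀ x v, σ x (f v) = (θ x).val • f (ρ x v))
    (v : V) : wproj σ (θ * μ) (f v) = f (wproj ρ μ v) := by
  rw [wproj_apply, wproj_apply, map_smul, map_sum]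
  congr 1
  refine Finset.sum_congr rfl fun x _ => ?_
  rw [hf, smul_smul, map_smul, ← Units.val_mul, MonoidHom.mul_apply, mul_inv, mul_comm (θ x)⁻¹,
    inv_mul_cancel_right]

theorem sum_units_eq_zero {θ : A →* Kˣ} (h : θ ≠ 1) : ∑ x : A, (θ x).val = 0 := by
  classical
  obtain ⟨a, ha⟩ : ∃ a, θ a ≠ 1 := by
    by_contra hc
    push Not at hc
    exact h (MonoidHom.ext hc)
  have h1 : (θ a).val * ∑ x : A, (θ x).val = ∑ x : A, (θ x).val := by
    rw [Finset.mul_sum]
    exact Fintype.sum_equiv (Equiv.mulLeft a) _ _ fun x => by simp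
  have h2 : ((θ a).val - 1) * ∑ x : A, (θ x).val = 0 := by rw [sub_mul, one_mul, h1, sub_self]
  exact (mul_eq_zero.mp h2).resolve_left (sub_ne_zero.mpr fun e => ha (Units.ext e))

theorem sum_units_eq [DecidableEq (A →* Kˣ)] (θ : A →* Kˣ) :
    ∑ x : A, (θ x).val = if θ = 1 then (Fintype.card A : K) else 0 := by
  split_ifs with h
  · simp [h]
  · exact sum_units_eq_zero h

end proj

section nilpotent

variable {V : Type*} [AddCommGroup V] [Module K V] [FiniteDimensional K V]

theorem finrank_range_pow_succ (f : Module.End K V) (j : ℕ) :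
    finrank K (LinearMap.range (f ^ (j + 1))) +
      finrank K ↥(LinearMap.ker f ⊓ LinearMap.range (f ^ j)) =
      finrank K (LinearMap.range (f ^ j)) := by
  have h := LinearMap.finrank_range_add_finrank_ker (f.domRestrict (LinearMap.range (f ^ j)))
  rw [LinearMap.range_domRestrict, LinearMap.ker_domRestrict,
    ← LinearMap.range_comp, ← Module.End.mul_eq_comp, ← pow_succ'] at h
  rw [← h, add_right_inj, ← (Submodule.comapSubtypeEquivOfLe
    (inf_le_right : LinearMap.ker f ⊓ LinearMap.range (f ^ j) ≤ _)).finrank_eq]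
  congr 2
  all_goals first | rfl | (ext x; simp)

/-- A map with `f ^ p = 0` in dimension less than `2 p` has `f ^ (p - 1)` of rank at most one. -/
theorem finrank_range_pow_le_one (f : Module.End K V) {q : ℕ} (hf : f ^ (q + 1) = 0)
    (hd : finrank K V < 2 * (q + 1)) : finrank K (LinearMap.range (f ^ q)) ≤ 1 := by
  by_contra hc
  have hker : LinearMap.range (f ^ q) ≤ LinearMap.ker f := by
    rintro _ ⟨v, rfl⟩
    rw [LinearMap.mem_ker, ← Module.End.mul_apply, ← pow_succ', hf, LinearMap.zero_apply]
  have hstep : ∀ j, j ≤ q → finrank K (LinearMap.range (f ^ q)) + 2 * (q - j) ≤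
      finrank K (LinearMap.range (f ^ j)) := by
    intro j hj
    induction hn : q - j generalizing j with
    | zero => rw [show j = q by omega]; simp
    | succ n ih =>
      have h1 := ih (j + 1) (by omega) (by omega)
      have h2 := finrank_range_pow_succ f j
      have h3 : finrank K (LinearMap.range (f ^ q)) ≤
          finrank K ↥(LinearMap.ker f ⊓ LinearMap.range (f ^ j)) := by
        refine Submodule.finrank_mono (le_inf hker ?_)
        rintro _ ⟨v, rfl⟩
        exact ⟨(f ^ (q - j)) v, by rw [← Module.End.mul_apply, ← pow_add]; congr 2; omega⟩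
      omega
  have h0 := hstep 0 (Nat.zero_le q)
  have := (Submodule.finrank_le (LinearMap.range (f ^ 0))).trans_lt hd
  omega

/-- Two vectors in the image of a map of rank at most one are proportional. -/
theorem exists_smul_of_finrank_range_le_one {f : Module.End K V}
    (h : finrank K (LinearMap.range f) ≤ 1) {a b : V} (ha : f a ≠ 0) :
    ∃ c : K, c • f a = f b := by
  have e : LinearMap.range f = K ∙ f a := by
    refine (Submodule.eq_of_le_of_finrank_le ?_ ?_).symm
    · exact (Submodule.span_singleton_le_iff_mem _ _).mpr ⟨a, rfl⟩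
    · rwa [finrank_span_singleton ha]
  have hb : f b ∈ K ∙ f a := e ▸ LinearMap.mem_range_self f b
  exact Submodule.mem_span_singleton.mp hb

end nilpotent

section perfect

variable {G : Type*} [Group G] {V : Type*} [AddCommGroup V] [Module K V]

/-- A perfect group acting trivially on a subspace and on the quotient by it acts trivially. -/
theorem rep_eq_one_of_unipotent (hperf : commutator G = ⊤) (ρ : Representation K G V)
    (W : Submodule K V) (h1 : ∀ g, ∀ w ∈ W, ρ g w = w) (h2 : ∀ g v, ρ g v - v ∈ W) (g : G) :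
    ρ g = 1 := by
  let φ : G →* Multiplicative (Module.End K V) :=
    { toFun := fun g => Multiplicative.ofAdd (ρ g - 1)
      map_one' := by simp
      map_mul' := fun a b => by
        rw [← ofAdd_add]
        congr 1
        refine LinearMap.ext fun v => ?_
        have h := h1 a _ (h2 b v)
        rw [map_sub] at h
        simp only [map_mul, LinearMap.sub_apply, Module.End.mul_apply, Module.End.one_apply,
          LinearMap.add_apply]
        linear_combination (norm := module) h }
  have h : commutator G ≤ φ.ker := Abelianization.commutator_subset_ker φ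
  rw [hperf] at h
  have : φ g = 1 := h (Subgroup.mem_top g)
  exact sub_eq_zero.mp (congrArg Multiplicative.toAdd this)

theorem det_rep_eq_one (hperf : commutator G = ⊤) (ρ : Representation K G V) (g : G) :
    LinearMap.det (ρ g) = 1 := by
  let φ : G →* Kˣ := MonoidHom.toHomUnits ((LinearMap.det : (V →ₗ[K] V) →* K).comp ρ)
  have h : commutator G ≤ φ.ker := Abelianization.commutator_subset_ker φ
  rw [hperf] at h
  exact congrArg Units.val (show φ g = 1 from h (Subgroup.mem_top g))

/-- A simple non-abelian group of even order has no non-trivial two-dimensional representation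
away from characteristic two. -/
theorem rep_eq_one_of_finrank_le_two [Finite G] [IsSimpleGroup G] (hperf : commutator G = ⊤)
    (h2 : (2 : K) ≠ 0) (heven : 2 ∣ Nat.card G) [FiniteDimensional K V]
    (ρ : Representation K G V) (hd : finrank K V ≤ 2) (g : G) : ρ g = 1 := by
  by_contra hg
  have hker : ρ.ker = ⊥ := by
    rcases (inferInstance : ρ.ker.Normal).eq_bot_or_eq_top with h | h
    · exact h
    · exact absurd (show g ∈ ρ.ker from h ▸ Subgroup.mem_top g) hg
  have hinj : Function.Injective ρ := (MonoidHom.ker_eq_bot_iff ρ).mp hker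
  obtain ⟨t, ht⟩ := exists_prime_orderOf_dvd_card' 2 heven
  have ht1 : t ≠ 1 := fun h => by rw [h, orderOf_one] at ht; omega
  have htt : t * t = 1 := by rw [← pow_two, ← ht, pow_orderOf_eq_one]
  suffices hc : ∃ c : K, ρ t = c • 1 by
    obtain ⟨c, hc⟩ := hc
    have hz : t ∈ Subgroup.center G := Subgroup.mem_center_iff.mpr fun x => hinj (by
      rw [map_mul, map_mul, hc, mul_smul_comm, smul_mul_assoc, mul_one, one_mul])
    have hzt : Subgroup.center G = ⊤ :=
      (inferInstance : (Subgroup.center G).Normal).eq_bot_or_eq_top.resolve_left fun e => by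
        rw [e, Subgroup.mem_bot] at hz; exact ht1 hz
    have hab : ∀ a b : G, a * b = b * a := fun a b =>
      (Subgroup.mem_center_iff.mp (hzt ▸ Subgroup.mem_top a) b).symm
    have : commutator G = ⊥ := by
      rw [commutator_def, Subgroup.commutator_eq_bot_iff_le_centralizer]
      intro a _
      exact Subgroup.mem_centralizer_iff.mpr fun b _ => hab b a
    exact top_ne_bot (hperf.symm.trans this)
  have hcases : finrank K V = 0 ∨ finrank K V = 1 ∨ finrank K V = 2 := by omega
  rcases hcases with h0 | h1 | h2'
  · have := Module.finrank_zero_iff.mp h0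
    exact ⟨1, Subsingleton.elim _ _⟩
  all_goals
    obtain ⟨d, hd', hd''⟩ : ∃ d, finrank K V = d ∧ (d = 1 ∨ d = 2) := ⟨_, rfl, by omega⟩
    set b := Module.finBasisOfFinrankEq K V hd'
    obtain ⟨M, hM⟩ : ∃ M, LinearMap.toMatrixAlgEquiv b (ρ t) = M := ⟨_, rfl⟩
    have hMM : M * M = 1 := by rw [← hM, ← map_mul, ← map_mul, htt, map_one, map_one]
    have hdet : M.det = 1 := by
      rw [← hM]
      exact (LinearMap.det_toMatrix b (ρ t)).trans (det_rep_eq_one hperf ρ t)
    suffices hc : ∃ c : K, M = c • 1 by
      obtain ⟨c, hc⟩ := hc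
      refine ⟨c, (LinearMap.toMatrixAlgEquiv b).injective ?_⟩
      rw [map_smul, map_one, hM, hc]
    rcases hd'' with rfl | rfl
    · refine ⟨M 0 0, ?_⟩
      ext i j
      obtain rfl := Subsingleton.elim i 0
      obtain rfl := Subsingleton.elim j 0
      simp
    · refine ⟨M 0 0, ?_⟩
      rw [Matrix.det_fin_two] at hdet
      have e00 := congrFun (congrFun hMM 0) 0
      have e01 := congrFun (congrFun hMM 0) 1
      have e10 := congrFun (congrFun hMM 1) 0
      have e11 := congrFun (congrFun hMM 1) 1
      simp only [Matrix.mul_apply, Fin.sum_univ_two, Matrix.one_apply] at e00 e01 e10 e11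
      norm_num at e00 e01 e10 e11
      have htr : M 0 0 + M 1 1 ≠ 0 := fun h => h2 (by
        linear_combination (M 0 0) * h - e00 - hdet)
      have h01 : M 0 1 = 0 :=
        (mul_eq_zero.mp (show (M 0 0 + M 1 1) * M 0 1 = 0 by linear_combination e01)).resolve_left htr
      have h10 : M 1 0 = 0 :=
        (mul_eq_zero.mp (show (M 0 0 + M 1 1) * M 1 0 = 0 by linear_combination e10)).resolve_left htr
      rw [h01] at e00 e11 hdet
      have h11 : M 1 1 = M 0 0 := by linear_combination (M 0 0) * e11 - (M 1 1) * hdet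
      ext i j
      fin_cases i <;> fin_cases j <;> simp [h01, h10, h11]

end perfect

theorem trace_eq_add [Infinite K] {V : Type*} [AddCommGroup V] [Module K V]
    [FiniteDimensional K V] (f : V →ₗ[K] V) (W : Submodule K V) (hW : W ≤ W.comap f) :
    LinearMap.trace K V f = LinearMap.trace K W (f.restrict hW) +
      LinearMap.trace K (V ⧸ W) (W.mapQ W f hW) := by
  have e : ∀ {U : Type _} [AddCommGroup U] [Module K U] [FiniteDimensional K U] (h : U →ₗ[K] U),
      LinearMap.trace K U h = -h.charpoly.nextCoeff := fun h => by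
    rw [LinearMap.trace_eq_matrix_trace K (Module.Free.chooseBasis K _) h,
      Matrix.trace_eq_neg_charpoly_nextCoeff, LinearMap.charpoly_toMatrix]
  rw [e f, e (f.restrict hW), e (W.mapQ W f hW), ModRep.charpoly_eq_mul f W hW,
    Polynomial.Monic.nextCoeff_mul (LinearMap.charpoly_monic _) (LinearMap.charpoly_monic _),
    neg_add]

open Matrix in
/-- An irreducible representation with real traces in odd dimension has an invariant symmetric
form. -/
theorem exists_symm_form [IsAlgClosed K] (h2 : (2 : K) ≠ 0) {G : Type*} [Group G] {n : ℕ}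
    (hn : Odd n) (R : G →* Matrix (Fin n) (Fin n) K)
    (hirr : CurtisRichen82.Irred (ModRep.matRep R))
    (htr : ∀ g, (R g).trace = (R g⁻¹).trace) :
    ∃ B : Matrix (Fin n) (Fin n) K, Bᵀ = B ∧ B.det ≠ 0 ∧ ∀ g, (R g)ᵀ * B * R g = B := by
  classical
  let R' : G →* Matrix (Fin n) (Fin n) K :=
    { toFun := fun g => (R g⁻¹)ᵀ
      map_one' := by simp
      map_mul' := fun a b => by rw [_root_.mul_inv_rev, map_mul, transpose_mul] }
  -- the kernel of a map intertwining `R` with `R'` is invariant
  have hdich : ∀ T : Matrix (Fin n) (Fin n) K, (∀ g, T * R g = R' g * T) → T = 0 ∨ T.det ≠ 0 := by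
    intro T hT
    rcases hirr.2 (LinearMap.ker T.toLin') (fun g v hv => by
      rw [LinearMap.mem_ker, toLin'_apply] at hv ⊢
      rw [ModRep.matRep_apply, toLin'_apply, mulVec_mulVec, hT, ← mulVec_mulVec, hv,
        mulVec_zero]) with h | h
    · refine Or.inr fun h0 => ?_
      obtain ⟨v, hv, hv0⟩ := exists_mulVec_eq_zero_iff.mpr h0
      exact hv ((Submodule.mem_bot K).mp (h ▸ (LinearMap.mem_ker.mpr (by rwa [toLin'_apply]))))
    · exact Or.inl (toLin'.injective (by
        rw [map_zero]; exact LinearMap.ker_eq_top.mp h))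
  have hirr' : CurtisRichen82.Irred (ModRep.matRep R') := by
    refine ⟨hirr.1, fun W hW => ?_⟩
    -- the annihilator of `W` is invariant under `R`
    let U : Submodule K (Fin n → K) :=
      { carrier := {v | ∀ w ∈ W, dotProduct v w = 0}
        add_mem' := fun {a b} ha hb w hw => by rw [add_dotProduct, ha w hw, hb w hw, add_zero]
        zero_mem' := fun w _ => zero_dotProduct _
        smul_mem' := fun c a ha w hw => by rw [smul_dotProduct, ha w hw, smul_zero] }
    have hUG : ∀ g, ∀ v ∈ U, ModRep.matRep R g v ∈ U := by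
      intro g v hv w hw
      have h1 := hv _ (hW g⁻¹ w hw)
      rw [ModRep.matRep_apply, toLin'_apply] at h1 ⊢
      change dotProduct v ((R g⁻¹⁻¹)ᵀ *ᵥ w) = 0 at h1
      rwa [inv_inv, dotProduct_mulVec, vecMul_transpose] at h1
    rcases hirr.2 U hUG with h | h
    · refine Or.inr (Submodule.eq_top_iff'.mpr fun w => ?_)
      by_contra hw
      obtain ⟨φ, hφw, hφ⟩ := Submodule.exists_dual_map_eq_bot_of_notMem hw inferInstance
      have hmem : (fun i => φ (Pi.single i 1)) ∈ U := by
        intro u hu
        have h0 : φ u = 0 := (Submodule.mem_bot K).mp (hφ ▸ Submodule.mem_map_of_mem hu)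
        rw [← h0]
        conv_rhs => rw [pi_eq_sum_univ' u, map_sum]
        simp [dotProduct, mul_comm]
      rw [h, Submodule.mem_bot] at hmem
      apply hφw
      rw [pi_eq_sum_univ' w, map_sum]
      refine Finset.sum_eq_zero fun i _ => ?_
      rw [map_smul, congrFun hmem i]
      simp
    · refine Or.inl ((Submodule.eq_bot_iff W).mpr fun w hw => funext fun i => ?_)
      simpa using (h ▸ Submodule.mem_top : (Pi.single i 1 : Fin n → K) ∈ U) w hw
  obtain ⟨T, hT0, hT⟩ : ∃ T : Matrix (Fin n) (Fin n) K, T ≠ 0 ∧ ∀ g, T * R g = R' g * T := by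
    by_contra hno
    push Not at hno
    let σ : Bool → Representation K G (Fin n → K) :=
      fun b => bif b then ModRep.matRep R' else ModRep.matRep R
    have hconv : ∀ (S S' : G →* Matrix (Fin n) (Fin n) K) (T : (Fin n → K) →ₗ[K] (Fin n → K)),
        (∀ g x, T (ModRep.matRep S g x) = ModRep.matRep S' g (T x)) →
        ∀ g, LinearMap.toMatrix' T * S g = S' g * LinearMap.toMatrix' T := by
      intro S S' T h g
      apply toLin'.injective
      rw [toLin'_mul, toLin'_mul, toLin'_toMatrix']
      exact LinearMap.ext fun x => h g x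
    have h0 := CurtisRichen82.trace_indep (d := fun _ : Bool => n) σ
      (fun b => by cases b <;> assumption) ?_ (fun b => bif b then -1 else 1) ?_
    · exact one_ne_zero (congrFun h0 false)
    · rintro v w hvw ⟨T, hT0, hT⟩
      have hne : LinearMap.toMatrix' T ≠ 0 := fun h => hT0 (by
        rw [← toLin'_toMatrix' T, h, map_zero])
      cases v <;> cases w <;> try exact hvw rfl
      · obtain ⟨g, hg⟩ := hno _ hne
        exact hg (hconv R R' T hT g)
      · -- the inverse of `T` intertwines the other way
        have hTT := hconv R' R T hT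
        -- invert
        rcases hirr'.2 (LinearMap.ker T) (fun g v hv => by
          rw [LinearMap.mem_ker] at hv ⊢
          exact (hT g v).trans (by rw [hv, map_zero])) with hk | hk
        · set A := LinearMap.toMatrix' T
          have hA : IsUnit A.det := by
            rw [← toLin'_toMatrix' T] at hk
            refine isUnit_iff_ne_zero.mpr fun hd => ?_
            obtain ⟨v, hv, hv0⟩ := exists_mulVec_eq_zero_iff.mpr hd
            exact hv ((Submodule.mem_bot K).mp (hk ▸ (LinearMap.mem_ker.mpr (by
              rwa [toLin'_apply]))))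
          have hAinv : A⁻¹ ≠ 0 := fun h => by
            have := A.mul_nonsing_inv hA
            rw [h, Matrix.mul_zero] at this
            exact hne (by rw [← Matrix.mul_one A, ← this, Matrix.mul_zero])
          obtain ⟨g, hg⟩ := hno A⁻¹ hAinv
          apply hg
          calc A⁻¹ * R g = A⁻¹ * (R g * A) * A⁻¹ := by
                rw [Matrix.mul_assoc, Matrix.mul_assoc (R g), A.mul_nonsing_inv hA, Matrix.mul_one]
            _ = R' g * A⁻¹ := by
                rw [← hTT, ← Matrix.mul_assoc, A.nonsing_inv_mul hA, Matrix.one_mul]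
        · exact hT0 (LinearMap.ker_eq_top.mp hk)
    · intro g
      have e : ∀ S : G →* Matrix (Fin n) (Fin n) K,
          LinearMap.trace K _ (ModRep.matRep S g) = (S g).trace := fun S => by
        rw [ModRep.matRep_apply, Matrix.trace_toLin'_eq]
      simp only [Fintype.sum_bool, σ, cond_true, cond_false, e]
      change -1 * (R g⁻¹)ᵀ.trace + 1 * (R g).trace = 0
      rw [trace_transpose, ← htr]
      ring
  have hTt : ∀ g, Tᵀ * R g = R' g * Tᵀ := by
    intro g
    have h1 := congrArg Matrix.transpose (hT g⁻¹)
    simp only [transpose_mul, R', MonoidHom.coe_mk, OneHom.coe_mk, inv_inv,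
      transpose_transpose] at h1
    exact h1.symm
  have hsymm : Tᵀ = T := by
    rcases hdich (T - Tᵀ) (fun g => by rw [Matrix.sub_mul, Matrix.mul_sub, hT, hTt]) with h | h
    · exact (sub_eq_zero.mp h).symm
    · exfalso
      apply h
      have e : (T - Tᵀ)ᵀ = -(T - Tᵀ) := by rw [transpose_sub, transpose_transpose, neg_sub]
      have hd := congrArg Matrix.det e
      rw [det_transpose, det_neg, Fintype.card_fin, hn.neg_one_pow, neg_one_mul] at hd
      have : (2 : K) * (T - Tᵀ).det = 0 := by linear_combination hd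
      exact (mul_eq_zero.mp this).resolve_left h2
  refine ⟨T, hsymm, (hdich T hT).resolve_left hT0, fun g => ?_⟩
  rw [Matrix.mul_assoc, hT, ← Matrix.mul_assoc]
  change (R g)ᵀ * (R g⁻¹)ᵀ * T = T
  rw [← transpose_mul, ← map_mul, inv_mul_cancel, map_one, transpose_one, Matrix.one_mul]

end Cfsg.Agent.PrimeDeg7
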