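import Cfsg.Agent.PrimeDeg7.Setup
import Cfsg.Agent.PrimeDeg7.Weights
import Cfsg.Agent.Lib.Perm.PrimeDegreeGroups

/-!
From the modular reduction of the character of degree `p + 1` to a three-dimensional representation:
a transfer from the permutation module.
-/

set_option autoImplicit false
set_option linter.unusedSectionVars false

namespace Cfsg.Agent.PrimeDeg7

open MulAction Module

variable {α : Type*} [Fintype α] [DecidableEq α] {p : ℕ} [hp : Fact p.Prime]
  {G : Subgroup (Equiv.Perm α)} [IsPretransitive G α] (D : Data p G)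
  (K : Type*) [Field K] [CharP K p]

namespace Data

/-- The action of the complement in the prime field of `K`. -/
noncomputable def sK : D.E →* Kˣ :=
  (Units.map (ZMod.castHom (dvd_refl p) K).toMonoidHom).comp D.s

variable {K}

theorem sK_val (x : D.E) : (D.sK K x : K) = ZMod.castHom (dvd_refl p) K (D.s x : ZMod p) := rfl

theorem sK_cast (x : D.E) : ((D.s x : ZMod p).val : K) = (D.sK K x : K) := by
  rw [sK_val, ← map_natCast (ZMod.castHom (dvd_refl p) K), ZMod.natCast_zmod_val]

theorem sK_injective : Function.Injective (D.sK K) :=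
  (Units.map_injective (ZMod.castHom (dvd_refl p) K).injective).comp D.s_inj

theorem card_E_ne [Fintype D.E] : (Fintype.card D.E : K) ≠ 0 := by
  rw [Fintype.card_eq_nat_card, ne_eq, CharP.cast_eq_zero_iff K p]
  intro h
  have h1 := Nat.le_of_dvd Nat.card_pos h
  have h2 := Nat.le_of_dvd (by have := D.five_le; omega) D.card_E_dvd
  have := D.five_le
  omega

theorem k_cast [Fintype D.E] : (D.k : K) * (Fintype.card D.E : K) = -1 := by
  rw [← Nat.cast_mul, Fintype.card_eq_nat_card, D.k_mul,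
    Nat.cast_sub (by have := D.five_le; omega), CharP.cast_eq_zero, Nat.cast_one, zero_sub]

/-- The hypotheses on the reduction. -/
structure IsRed {V : Type*} [AddCommGroup V] [Module K V] (ρ : Representation K G V) : Prop where
  finrank_eq : finrank K V = p + 1
  trace_E : ∀ x : D.E, x ≠ 1 →
    LinearMap.trace K V (ρ (x : G)) = (D.sK K x : K) + ((D.sK K x)⁻¹ : Kˣ)
  trace_inv : ∀ g, LinearMap.trace K V (ρ g⁻¹) = LinearMap.trace K V (ρ g)

/-- The restriction to the complement. -/
noncomputable abbrev resE {V : Type*} [AddCommGroup V] [Module K V] (ρ : Representation K G V) :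
    Representation K D.E V := ρ.comp D.E.subtype

/-- The sum over the Sylow subgroup. -/
noncomputable def nrm {V : Type*} [AddCommGroup V] [Module K V] (ρ : Representation K G V) :
    V →ₗ[K] V := ∑ i : ZMod p, ρ (D.u ^ i.val)

variable {V : Type*} [AddCommGroup V] [Module K V] {ρ : Representation K G V}

theorem rho_pow_shift (x : D.E) (n : ℕ) :
    ρ (x : G) * ρ (D.u ^ n) = ρ (D.u ^ ((D.s x : ZMod p) * n).val) * ρ (x : G) := by
  rw [← map_mul, ← map_mul]
  have h := D.conj_pow x n
  rw [mul_inv_eq_iff_eq_mul] at h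
  rw [h]

theorem nrm_comm (x : D.E) : ρ (x : G) * D.nrm ρ = D.nrm ρ * ρ (x : G) := by
  rw [nrm, Finset.mul_sum, Finset.sum_mul]
  refine Fintype.sum_equiv (Units.mulLeft (D.s x)) _ _ fun i => ?_
  rw [rho_pow_shift, Units.mulLeft_apply, ZMod.natCast_zmod_val]

theorem wproj_nrm [Fintype D.E] (ν : D.E →* Kˣ) (v : V) :
    wproj (D.resE ρ) ν (D.nrm ρ v) = D.nrm ρ (wproj (D.resE ρ) ν v) := by
  have := wproj_comp (θ := 1) (μ := ν) (σ := D.resE ρ) (ρ := D.resE ρ) (D.nrm ρ) (fun x w => by
    rw [MonoidHom.one_apply, Units.val_one, one_smul]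
    exact LinearMap.congr_fun (D.nrm_comm (ρ := ρ) x) w) v
  rwa [show (1 : D.E →* Kˣ) * ν = ν from MonoidHom.ext fun x => one_mul _] at this

theorem sum_range_eq (f : ℕ → Module.End K V) :
    ∑ i : ZMod p, f i.val = ∑ j ∈ Finset.range p, f j := by
  refine Finset.sum_nbij (fun i : ZMod p => i.val) (fun i _ => Finset.mem_range.mpr (ZMod.val_lt i))
    (fun a _ b _ h => ZMod.val_injective p h) (fun j hj => ⟨(j : ZMod p), Finset.mem_univ _,
      ZMod.val_natCast_of_lt (Finset.mem_range.mp hj)⟩) (fun _ _ => rfl)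

theorem sub_one_pow : (ρ D.u - 1) ^ (p - 1) = D.nrm ρ ∧ (ρ D.u - 1) ^ p = 0 := by
  open Polynomial in
  have h1 : ((X : K[X]) - 1) ^ p = X ^ p - 1 := by rw [sub_pow_char, one_pow]
  open Polynomial in
  have h2 : ((X : K[X]) - 1) ^ (p - 1) = ∑ j ∈ Finset.range p, X ^ j := by
    have hne : (X : K[X]) - 1 ≠ 0 := by
      rw [← C_1]; exact X_sub_C_ne_zero 1
    refine mul_left_cancel₀ hne ?_
    rw [← pow_succ', show p - 1 + 1 = p by have := hp.out.two_le; omega, h1, mul_geom_sum]
  constructor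
  · have := congrArg (Polynomial.aeval (ρ D.u)) h2
    simp only [map_pow, map_sub, Polynomial.aeval_X, map_one, map_sum] at this
    rw [this, nrm]
    simp only [← map_pow]
    exact (sum_range_eq fun j => ρ (D.u ^ j)).symm
  · have := congrArg (Polynomial.aeval (ρ D.u)) h1
    simp only [map_pow, map_sub, Polynomial.aeval_X, map_one] at this
    rw [this, ← map_pow, D.u_pow_p, map_one, sub_self]

theorem IsRed.finrank_weight [FiniteDimensional K V] (h : D.IsRed ρ) [Fintype D.E]
    (ν : D.E →* Kˣ) [DecidableEq (D.E →* Kˣ)] :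
    (finrank K (wspace (D.resE ρ) ν) : K) = (D.k : K) +
      (if ν = D.sK K then 1 else 0) + (if ν = (D.sK K)⁻¹ then 1 else 0) := by
  classical
  rw [natCast_finrank_wspace (D.card_E_ne)]
  have e : ∀ x : D.E, ((ν x)⁻¹ : Kˣ).val * LinearMap.trace K V (D.resE ρ x) =
      (if x = 1 then (-1 : K) else 0) + ((ν⁻¹ * D.sK K) x).val +
        ((ν⁻¹ * (D.sK K)⁻¹) x).val := by
    intro x
    simp only [MonoidHom.mul_apply, MonoidHom.inv_apply, Units.val_mul]
    by_cases hx : x = 1
    · subst hx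
      rw [if_pos rfl, map_one, inv_one, Units.val_one, one_mul, map_one, LinearMap.trace_one,
        h.finrank_eq, map_one, inv_one, Units.val_one, Nat.cast_add, CharP.cast_eq_zero,
        Nat.cast_one]
      ring
    · rw [if_neg hx]
      show _ * LinearMap.trace K V (ρ (x : G)) = _
      rw [h.trace_E x hx]
      ring
  simp only [e, Finset.sum_add_distrib, Finset.sum_ite_eq', Finset.mem_univ, if_true, sum_units_eq]
  have hinv : ∀ μ : D.E →* Kˣ, ν⁻¹ * μ = 1 ↔ ν = μ := fun μ =>
    ⟨fun hh => MonoidHom.ext fun x => inv_mul_eq_one.mp (DFunLike.congr_fun hh x),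
      fun hh => hh ▸ MonoidHom.ext fun x => inv_mul_cancel (ν x)⟩
  simp only [hinv]
  have hk := D.k_cast (K := K)
  have hE := D.card_E_ne (K := K)
  field_simp
  split_ifs <;> linear_combination -hk

theorem sK_pow_ne {y : D.E} (hy : ∀ x : D.E, ∃ n : ℕ, y ^ n = x) (he : 3 ≤ Nat.card D.E) :
    (D.sK K y : K) ≠ 1 ∧ (D.sK K y : K) * (D.sK K y : K) ≠ 1 := by
  have hord : orderOf y = Nat.card D.E := orderOf_eq_card_of_forall_mem_zpowers fun x => by
    obtain ⟨n, rfl⟩ := hy x
    exact pow_mem (Subgroup.mem_zpowers y) n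
  constructor
  · intro h
    have h1 : y = 1 := D.sK_injective (K := K) (by rw [map_one]; exact Units.ext h)
    rw [h1, orderOf_one] at hord
    omega
  · intro h
    have h1 : y ^ 2 = 1 := D.sK_injective (K := K) (by
      rw [map_pow, map_one, pow_two]; exact Units.ext h)
    have := Nat.le_of_dvd two_pos (orderOf_dvd_of_pow_eq_one h1)
    omega

theorem sK_ne (he : 3 ≤ Nat.card D.E) :
    D.sK K ≠ 1 ∧ (D.sK K)⁻¹ ≠ 1 ∧ D.sK K ≠ (D.sK K)⁻¹ := by
  obtain ⟨y, hy⟩ := D.exists_E_gen
  obtain ⟨h1, h2⟩ := D.sK_pow_ne (K := K) hy he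
  refine ⟨fun h => h1 ?_, fun h => h1 ?_, fun h => h2 ?_⟩
  · rw [h]; rfl
  · have := DFunLike.congr_fun h y
    rw [MonoidHom.inv_apply, MonoidHom.one_apply, inv_eq_one] at this
    rw [this]; rfl
  · have := DFunLike.congr_fun h y
    rw [MonoidHom.inv_apply] at this
    rw [← Units.val_mul, mul_eq_one_iff_eq_inv.mpr this, Units.val_one]

theorem finrank_bound {m : ℕ} {r : ℕ} (h : (r : K) = (m : K)) (hm : m < p) : m ≤ r := by
  rw [CharP.natCast_eq_natCast K p] at h
  calc m = m % p := (Nat.mod_eq_of_lt hm).symm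
    _ = r % p := h.symm
    _ ≤ r := Nat.mod_le _ _

theorem k_bound (he : 3 ≤ Nat.card D.E) : 3 * D.k + 1 ≤ p := by
  have h := D.k_mul
  have : D.k * 3 ≤ D.k * Nat.card D.E := Nat.mul_le_mul_left _ he
  have := D.five_le
  omega

/-- A weight vector killed by the norm and outside the image of `u - 1`. -/
def Good [Fintype D.E] (ρ : Representation K G V) : Prop :=
  ∃ v ∈ wspace (D.resE ρ) (D.sK K), D.nrm ρ v = 0 ∧ v ∉ LinearMap.range (ρ D.u - 1)

theorem IsRed.finrank_one_eq [FiniteDimensional K V] (h : D.IsRed ρ) [Fintype D.E]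
    (he : 3 ≤ Nat.card D.E) :
    finrank K (wspace (D.resE ρ) 1) = D.k ∧ D.k + 1 ≤ finrank K (wspace (D.resE ρ) (D.sK K)) ∧
      D.k + 1 ≤ finrank K (wspace (D.resE ρ) (D.sK K)⁻¹) := by
  classical
  obtain ⟨h1, h2, h3⟩ := D.sK_ne (K := K) he
  have hk := D.k_bound he
  have h5 := D.five_le
  have hk0 : 1 ≤ D.k := Nat.one_le_iff_ne_zero.mpr fun h0 => by
    have := D.k_mul; rw [h0, zero_mul] at this; omega
  have hs := h.finrank_weight (D := D) (D.sK K)
  rw [if_pos rfl, if_neg h3, add_zero, ← Nat.cast_one (R := K), ← Nat.cast_add] at hs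
  have hs' := finrank_bound hs (by omega)
  have hi := h.finrank_weight (D := D) (D.sK K)⁻¹
  rw [if_neg h3.symm, add_zero, if_pos rfl, ← Nat.cast_one (R := K), ← Nat.cast_add] at hi
  have hi' := finrank_bound hi (by omega)
  have ho := h.finrank_weight (D := D) 1
  rw [if_neg h1.symm, if_neg h2.symm, add_zero, add_zero] at ho
  refine ⟨?_, hs', hi'⟩
  have hd := Submodule.finrank_add_finrank_le_of_disjoint
    (disjoint_wspace (ρ := D.resE ρ) (D.card_E_ne) h1.symm)
  rw [h.finrank_eq] at hd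
  have hlow := finrank_bound ho (by omega)
  rw [CharP.natCast_eq_natCast K p, Nat.ModEq, Nat.mod_eq_of_lt (show D.k < p by omega)] at ho
  by_contra hne
  have : D.k + p ≤ finrank K (wspace (D.resE ρ) 1) := by
    have := Nat.div_add_mod (finrank K (wspace (D.resE ρ) 1)) p
    rw [ho] at this
    have hq : 1 ≤ finrank K (wspace (D.resE ρ) 1) / p := by
      rcases Nat.eq_zero_or_pos (finrank K (wspace (D.resE ρ) 1) / p) with h0 | h0
      · rw [h0] at this; omega
      · exact h0
    have : p * 1 ≤ p * (finrank K (wspace (D.resE ρ) 1) / p) := Nat.mul_le_mul_left _ hq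
    omega
  omega

theorem good_of_nrm_eq_zero [FiniteDimensional K V] (h : D.IsRed ρ) [Fintype D.E]
    (he : 3 ≤ Nat.card D.E) (hN : ∀ v ∈ wspace (D.resE ρ) (D.sK K), D.nrm ρ v = 0) :
    D.Good ρ := by
  classical
  obtain ⟨hone, hs, -⟩ := h.finrank_one_eq (D := D) he
  set T0 := ρ D.u - 1 with hT0
  set T' : Module.End K V :=
    ∑ x : D.E, ((D.sK K x)⁻¹ : Kˣ).val • (ρ (D.u ^ (D.s x : ZMod p).val) - 1) with hT'
  have hcomm : ∀ (x : D.E) (w : V),
      D.resE ρ x (T' w) = (D.sK K x).val • T' (D.resE ρ x w) := by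
    intro x w
    show ρ (x : G) (T' w) = (D.sK K x).val • T' (ρ (x : G) w)
    simp only [hT', LinearMap.sum_apply, map_sum, Finset.smul_sum, LinearMap.smul_apply, map_smul]
    refine Fintype.sum_equiv (Equiv.mulLeft x) _ _ fun y => ?_
    have e := LinearMap.congr_fun (D.rho_pow_shift (ρ := ρ) x (D.s y : ZMod p).val) w
    rw [Module.End.mul_apply, Module.End.mul_apply, ZMod.natCast_zmod_val] at e
    simp only [LinearMap.sub_apply, Module.End.one_apply, map_sub, e, Equiv.coe_mulLeft, map_mul,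
      Units.val_mul, smul_smul, mul_inv_rev]
    congr 1
    rw [mul_comm ((D.sK K y)⁻¹ : Kˣ).val, ← mul_assoc, Units.mul_inv, one_mul]
  -- `T'` is `T0` times a unit
  set U : Module.End K V := ∑ x : D.E, ((D.sK K x)⁻¹ : Kˣ).val •
    ∑ j ∈ Finset.range (D.s x : ZMod p).val, ρ D.u ^ j with hU
  have hTU : T' = T0 * U := by
    rw [hT', hU, Finset.mul_sum]
    refine Finset.sum_congr rfl fun x _ => ?_
    rw [mul_smul_comm, hT0, mul_geom_sum, map_pow]
  have hcT : Commute T0 (ρ D.u) := (Commute.refl (ρ D.u)).sub_left (Commute.one_left _)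
  have hW : ∃ W : Module.End K V, Commute T0 W ∧
      U = (Fintype.card D.E : K) • 1 + T0 * W := by
    refine ⟨∑ x : D.E, ((D.sK K x)⁻¹ : Kˣ).val •
      ∑ j ∈ Finset.range (D.s x : ZMod p).val, ∑ i ∈ Finset.range j, ρ D.u ^ i, ?_, ?_⟩
    · exact Commute.sum_right _ _ _ fun x _ => (Commute.sum_right _ _ _ fun j _ =>
        Commute.sum_right _ _ _ fun i _ => hcT.pow_right i).smul_right _
    · have e : (Fintype.card D.E : K) • (1 : Module.End K V) = ∑ _x : D.E, (1 : Module.End K V) := by
        rw [Finset.sum_const, Finset.card_univ, Nat.cast_smul_eq_nsmul]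
      rw [e, hU, Finset.mul_sum, ← Finset.sum_add_distrib]
      refine Finset.sum_congr rfl fun x _ => ?_
      rw [mul_smul_comm, hT0, Finset.mul_sum]
      simp only [mul_geom_sum]
      rw [Finset.sum_sub_distrib, Finset.sum_const, Finset.card_range, smul_sub,
        ← Nat.cast_smul_eq_nsmul K, smul_smul, D.sK_cast, Units.inv_mul, one_smul, add_comm,
        sub_add_cancel]
  obtain ⟨W, hcW, hUW⟩ := hW
  have hUunit : IsUnit U := by
    rw [hUW]
    refine IsNilpotent.isUnit_add_left_of_commute ⟨p, ?_⟩ ?_ ?_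
    · rw [hcW.mul_pow, hT0, (D.sub_one_pow (ρ := ρ)).2, zero_mul]
    · rw [Algebra.smul_def, mul_one]
      exact (IsUnit.map (algebraMap K (Module.End K V)) (isUnit_iff_ne_zero.mpr (D.card_E_ne)))
    · exact (Commute.one_right _).smul_right _
  have hle : wspace (D.resE ρ) (D.sK K) ⊓ LinearMap.range T0 ≤
      (wspace (D.resE ρ) 1).map T' := by
    rintro w ⟨hw, z, rfl⟩
    obtain ⟨Ui, hUi⟩ := hUunit.exists_right_inv
    refine ⟨wproj (D.resE ρ) 1 (Ui z), ⟨_, rfl⟩, ?_⟩
    have hz : T' (Ui z) = T0 z := by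
      rw [hTU, Module.End.mul_apply, ← Module.End.mul_apply U, hUi, Module.End.one_apply]
    have := wproj_comp (θ := D.sK K) (μ := 1) (σ := D.resE ρ) (ρ := D.resE ρ) T' hcomm (Ui z)
    rw [show D.sK K * (1 : D.E →* Kˣ) = D.sK K from MonoidHom.ext fun x => mul_one _, hz] at this
    rw [← this]
    exact wproj_eq_self (D.card_E_ne) ((mem_wspace (D.card_E_ne)).mp hw)
  by_contra hbad
  have hsub : wspace (D.resE ρ) (D.sK K) ≤ LinearMap.range T0 := fun v hv => by
    by_contra hc
    exact hbad ⟨v, hv, hN v hv, hc⟩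
  have := (Submodule.finrank_mono (le_inf le_rfl hsub |>.trans hle)).trans
    (Submodule.finrank_map_le _ _)
  omega

theorem IsRed.dual [FiniteDimensional K V] (h : D.IsRed ρ) : D.IsRed ρ.dual := by
  refine ⟨by rw [Subspace.dual_finrank_eq, h.finrank_eq], fun x hx => ?_, fun g => ?_⟩
  · rw [Representation.dual_apply, LinearMap.trace_transpose', h.trace_inv, h.trace_E x hx]
  · rw [Representation.dual_apply, Representation.dual_apply, LinearMap.trace_transpose',
      LinearMap.trace_transpose', inv_inv, h.trace_inv]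

/-- After possibly passing to the dual there is a good vector. -/
theorem exists_good [FiniteDimensional K V] (h : D.IsRed ρ) [Fintype D.E]
    (he : 3 ≤ Nat.card D.E) : D.Good ρ ∨ D.Good ρ.dual := by
  classical
  by_cases hN : ∀ v ∈ wspace (D.resE ρ) (D.sK K), D.nrm ρ v = 0
  · exact Or.inl (good_of_nrm_eq_zero D h he hN)
  refine Or.inr (good_of_nrm_eq_zero D (IsRed.dual D h) he ?_)
  push Not at hN
  obtain ⟨a, ha, ha0⟩ := hN
  have hE := D.card_E_ne (K := K)
  have hs : wproj (D.resE ρ) (D.sK K) a = a := wproj_eq_self hE ((mem_wspace hE).mp ha)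
  have hrk : finrank K (LinearMap.range (D.nrm ρ)) ≤ 1 := by
    rw [← (D.sub_one_pow (ρ := ρ)).1]
    refine finrank_range_pow_le_one _ ?_ ?_
    · rw [show p - 1 + 1 = p by have := hp.out.two_le; omega]; exact (D.sub_one_pow (ρ := ρ)).2
    · rw [h.finrank_eq]; have := D.five_le; omega
  obtain ⟨h1, h2, h3⟩ := D.sK_ne (K := K) he
  -- the norm kills the inverse weight
  have hz : ∀ b, D.nrm ρ (wproj (D.resE ρ) (D.sK K)⁻¹ b) = 0 := by
    intro b
    obtain ⟨c, hc⟩ := exists_smul_of_finrank_range_le_one hrk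
      (b := wproj (D.resE ρ) (D.sK K)⁻¹ b) ha0
    have e1 : D.nrm ρ (wproj (D.resE ρ) (D.sK K)⁻¹ b) ∈ wspace (D.resE ρ) (D.sK K)⁻¹ :=
      ⟨D.nrm ρ b, D.wproj_nrm _ b⟩
    have e2 : D.nrm ρ (wproj (D.resE ρ) (D.sK K)⁻¹ b) ∈ wspace (D.resE ρ) (D.sK K) := by
      rw [← hc]
      refine Submodule.smul_mem _ c ⟨D.nrm ρ a, ?_⟩
      rw [D.wproj_nrm, hs]
    exact Submodule.disjoint_def.mp (disjoint_wspace hE h3) _ e2 e1
  intro f hf
  have hf' := wproj_eq_self hE ((mem_wspace hE).mp hf)
  have e1 : ∀ v, wproj (D.resE ρ.dual) (D.sK K) f v = f (wproj (D.resE ρ) (D.sK K)⁻¹ v) := by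
    intro v
    rw [wproj_apply, wproj_apply, LinearMap.smul_apply, map_smul, map_sum, LinearMap.sum_apply]
    congr 1
    refine Fintype.sum_equiv (Equiv.inv D.E) _ _ fun x => ?_
    show ((D.sK K x)⁻¹ : Kˣ).val • f (ρ ((x : G)⁻¹) v) =
      f ((((D.sK K)⁻¹ x⁻¹)⁻¹ : Kˣ).val • ρ ((x⁻¹ : D.E) : G) v)
    rw [map_smul, MonoidHom.inv_apply, inv_inv, map_inv (D.sK K), Subgroup.coe_inv]
  refine LinearMap.ext fun w => ?_
  rw [← hf', LinearMap.zero_apply]
  have e2 : D.nrm ρ.dual (wproj (D.resE ρ.dual) (D.sK K) f) w =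
      wproj (D.resE ρ.dual) (D.sK K) f (D.nrm ρ w) := by
    simp only [nrm, LinearMap.sum_apply, map_sum]
    refine Fintype.sum_equiv (Equiv.neg (ZMod p)) _ _ fun i => ?_
    show wproj (D.resE ρ.dual) (D.sK K) f (ρ (D.u ^ i.val)⁻¹ w) = _
    congr 3
    rw [Equiv.neg_apply, inv_eq_iff_mul_eq_one, ← pow_add, ← pow_zero D.u]
    exact D.pow_eq_pow (by push_cast; simp)
  rw [e2, e1, D.wproj_nrm, hz, map_zero]

/-! ### The transfer -/

theorem finrank_perm_weight [Fintype D.E] (ν : D.E →* Kˣ) [DecidableEq (D.E →* Kˣ)] :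
    (finrank K (wspace (D.resE (Cfsg.permRep K G α)) ν) : K) =
      (D.k : K) + if ν = 1 then 1 else 0 := by
  classical
  rw [natCast_finrank_wspace (D.card_E_ne)]
  have e : ∀ x : D.E,
      ((ν x)⁻¹ : Kˣ).val * LinearMap.trace K (α → K) (D.resE (Cfsg.permRep K G α) x) =
        (if x = 1 then (-1 : K) else 0) + (ν⁻¹ x).val := by
    intro x
    rw [MonoidHom.inv_apply]
    by_cases hx : x = 1
    · subst hx
      rw [if_pos rfl, map_one, inv_one, Units.val_one, one_mul, map_one, LinearMap.trace_one,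
        Module.finrank_fintype_fun_eq_card, D.hα, CharP.cast_eq_zero]
      ring
    · rw [if_neg hx]
      have htr : LinearMap.trace K (α → K) (Cfsg.permRep K G α (x : G)) = 1 := by
        rw [LinearMap.trace_eq_matrix_trace K (Pi.basisFun K α), Matrix.trace]
        simp only [Matrix.diag_apply, LinearMap.toMatrix_apply, Pi.basisFun_repr,
          Pi.basisFun_apply, Perm.permRep_single, Pi.single_apply]
        rw [Fintype.sum_eq_single D.a]
        · rw [if_pos]
          obtain ⟨j, hj⟩ : ∃ j, D.a = D.pt j := ⟨0, rfl⟩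
          show D.pt 0 = (x : G) • D.pt 0
          rw [D.E_smul, mul_zero]
        · intro i hi
          obtain ⟨j, rfl⟩ := D.pt.surjective i
          rw [if_neg]
          intro hc
          exact hi (by rw [Data.a, (D.fix_iff hx j).mp hc.symm])
      show _ * LinearMap.trace K (α → K) (Cfsg.permRep K G α (x : G)) = _
      rw [htr]
      ring
  simp only [e, Finset.sum_add_distrib, Finset.sum_ite_eq', Finset.mem_univ, if_true, sum_units_eq]
  have hinv : ν⁻¹ = 1 ↔ ν = 1 :=
    ⟨fun hh => MonoidHom.ext fun x => inv_eq_one.mp (DFunLike.congr_fun hh x),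
      fun hh => by subst hh; exact MonoidHom.ext fun x => (inv_one : (1 : Kˣ)⁻¹ = 1)⟩
  simp only [hinv]
  have hk := D.k_cast (K := K)
  have hE := D.card_E_ne (K := K)
  field_simp
  split_ifs <;> linear_combination -hk

theorem finrank_perm_le [Fintype D.E] (ν : D.E →* Kˣ) :
    (ν ≠ 1 → finrank K (wspace (D.resE (Cfsg.permRep K G α)) ν) ≤ D.k) ∧
      finrank K (wspace (D.resE (Cfsg.permRep K G α)) 1) ≤ D.k + 1 := by
  classical
  have hk := D.k_mul
  have h5 := D.five_le
  have hkp : D.k + 1 < p := by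
    have : D.k * 2 ≤ D.k * Nat.card D.E := Nat.mul_le_mul_left _ D.two_le
    omega
  have hdim : finrank K (α → K) = p := by rw [Module.finrank_fintype_fun_eq_card, D.hα]
  have key : ∀ (r m : ℕ), (r : K) = (m : K) → m < p → r < p → r = m := by
    intro r m h hm hr
    rwa [CharP.natCast_eq_natCast K p, Nat.ModEq, Nat.mod_eq_of_lt hm, Nat.mod_eq_of_lt hr] at h
  have hE := D.card_E_ne (K := K)
  have h1 := D.finrank_perm_weight (K := K) 1
  rw [if_pos rfl, ← Nat.cast_one (R := K), ← Nat.cast_add] at h1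
  have hone := finrank_bound h1 hkp
  refine ⟨fun hν => ?_, ?_⟩
  · have h := D.finrank_perm_weight (K := K) ν
    rw [if_neg hν, add_zero] at h
    have hd := Submodule.finrank_add_finrank_le_of_disjoint
      (disjoint_wspace (ρ := D.resE (Cfsg.permRep K G α)) hE hν)
    rw [hdim] at hd
    exact (key _ _ h (by omega) (by omega)).le
  · have hle := Submodule.finrank_le (wspace (D.resE (Cfsg.permRep K G α)) 1)
    rw [hdim] at hle
    rcases hle.lt_or_eq with hlt | heq
    · exact (key _ _ h1 hkp hlt).le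
    · -- the complement moves some point
      exfalso
      obtain ⟨y, hy⟩ := D.exists_E_gen
      have htop := Submodule.eq_top_of_finrank_eq (heq.trans hdim.symm)
      have : Nontrivial D.E := Finite.one_lt_card_iff_nontrivial.mp D.two_le
      obtain ⟨x, hx⟩ := exists_ne (1 : D.E)
      have hmem := (mem_wspace hE).mp
        (htop ▸ Submodule.mem_top : Pi.single (D.pt 1) (1 : K) ∈
          wspace (D.resE (Cfsg.permRep K G α)) 1) x
      rw [MonoidHom.one_apply, Units.val_one, one_smul] at hmem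
      have := congrFun hmem (D.pt 1)
      change Cfsg.permRep K G α (x : G) (Pi.single (D.pt 1) 1) (D.pt 1) = _ at this
      rw [Perm.permRep_single, Pi.single_eq_same, Pi.single_apply, if_neg] at this
      · exact zero_ne_one this
      · intro hc
        have := (D.fix_iff hx 1).mp hc.symm
        exact one_ne_zero this

/-- The transfer of a good vector: a map from the sum-zero functions. -/
theorem exists_transfer [Fintype D.E] (hgood : D.Good ρ) :
    ∃ F : (α → K) →ₗ[K] V,
      (∀ (h : G) (f : α → K), ∑ i, f i = 0 → F (Cfsg.permRep K G α h f) = ρ h (F f)) ∧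
      ∃ f : α → K, ∑ i, f i = 0 ∧ F f ≠ 0 := by
  classical
  obtain ⟨v, hv, hNv, hvr⟩ := hgood
  set Y := LinearMap.range (ρ D.u - 1) with hY
  have hmkU : ∀ (n : ℕ) (z : V), Submodule.Quotient.mk (p := Y) (ρ (D.u ^ n) z) =
      Submodule.Quotient.mk z := by
    intro n
    induction n with
    | zero => intro z; simp
    | succ n ih =>
      intro z
      rw [pow_succ, map_mul, Module.End.mul_apply, ih, Submodule.Quotient.eq]
      exact ⟨z, by simp⟩
  let Sn : ℕ → V := fun n => ∑ j ∈ Finset.range n, ρ (D.u ^ j) v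
  have hSn : ∀ n, Sn (n + 1) = v + ρ D.u (Sn n) := fun n => by
    simp only [Sn]
    rw [Finset.sum_range_succ', map_sum, add_comm, pow_zero, map_one, Module.End.one_apply]
    congr 1
    refine Finset.sum_congr rfl fun j _ => ?_
    rw [pow_succ', map_mul, Module.End.mul_apply]
  have hSnp : Sn p = 0 := by
    rw [nrm, sum_range_eq (fun j => ρ (D.u ^ j)), LinearMap.sum_apply] at hNv
    exact hNv
  let S : ZMod p → V := fun i => Sn i.val
  have hS : ∀ i, S (i + 1) = v + ρ D.u (S i) := fun i => by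
    show Sn (i + 1).val = v + ρ D.u (Sn i.val)
    rw [← hSn, ZMod.val_add, ZMod.val_one]
    rcases lt_or_eq_of_le (Nat.succ_le_of_lt (ZMod.val_lt i)) with h | h
    · rw [Nat.mod_eq_of_lt h]
    · rw [show i.val + 1 = p from h, Nat.mod_self, hSnp]; simp [Sn]
  have hS0 : S 0 = 0 := by simp [S, Sn]
  have hSmk : ∀ i, Submodule.Quotient.mk (p := Y) (S i) =
      (i.val : K) • Submodule.Quotient.mk v := fun i => by
    simp only [S, Sn]
    rw [← Submodule.mkQ_apply, map_sum]
    simp only [Submodule.mkQ_apply, hmkU, Finset.sum_const, Finset.card_range]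
    rw [Nat.cast_smul_eq_nsmul]
  let β : (α → K) →ₗ[K] V :=
    { toFun := fun f => ∑ i : ZMod p, f (D.pt i) • S i
      map_add' := fun f g => by simp [add_smul, Finset.sum_add_distrib]
      map_smul' := fun c f => by simp [Finset.smul_sum, smul_smul] }
  have hβ1 : ∀ f : α → K, ∑ i, f i = 0 →
      β (Cfsg.permRep K G α D.u f) = ρ D.u (β f) := by
    intro f hf
    show ∑ i, (Cfsg.permRep K G α D.u f) (D.pt i) • S i = ρ D.u (∑ i, f (D.pt i) • S i)
    rw [← Fintype.sum_equiv (Equiv.addRight (1 : ZMod p))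
      (fun i => f (D.pt i) • S (i + 1)) _ fun i => by
        rw [Perm.permRep_apply, Equiv.coe_addRight,
          show D.u⁻¹ • D.pt (i + 1) = D.pt i by rw [inv_smul_eq_iff, D.u_smul]]]
    rw [map_sum]
    simp only [hS, smul_add, map_smul, Finset.sum_add_distrib, ← Finset.sum_smul]
    rw [Equiv.sum_comp D.pt f, hf, zero_smul, zero_add]
  have hRinv : ∀ (h : G) (f : α → K), ∑ i, f i = 0 → ∑ i, Cfsg.permRep K G α h f i = 0 :=
    fun h f hf => (Cfsg.permSumZero K G α).apply_mem_toSubmodule h hf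
  have hβn : ∀ (n : ℕ) (f : α → K), ∑ i, f i = 0 →
      β (Cfsg.permRep K G α (D.u ^ n) f) = ρ (D.u ^ n) (β f) := by
    intro n
    induction n with
    | zero => intro f _; simp
    | succ n ih =>
      intro f hf
      rw [pow_succ', map_mul, map_mul, Module.End.mul_apply, Module.End.mul_apply,
        hβ1 _ (hRinv _ f hf), ih f hf]
  let Φ : G → ((α → K) →ₗ[K] V) := fun g => ρ g ∘ₗ β ∘ₗ Cfsg.permRep K G α g⁻¹
  have hΦu : ∀ (g : G) (n : ℕ) (f : α → K), ∑ i, f i = 0 → Φ (g * D.u ^ n) f = Φ g f := by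
    intro g n f hf
    show ρ (g * D.u ^ n) (β (Cfsg.permRep K G α (g * D.u ^ n)⁻¹ f)) = _
    rw [map_mul, Module.End.mul_apply, mul_inv_rev, map_mul, Module.End.mul_apply]
    have e := hβn n (Cfsg.permRep K G α (D.u ^ n)⁻¹ (Cfsg.permRep K G α g⁻¹ f))
      (hRinv _ _ (hRinv _ f hf))
    rw [← Module.End.mul_apply (Cfsg.permRep K G α (D.u ^ n)), ← map_mul, mul_inv_cancel, map_one,
      Module.End.one_apply] at e
    exact congrArg (ρ g) e.symm
  set P := Subgroup.zpowers D.u with hP
  have : Fintype (G ⧸ P) := Fintype.ofFinite _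
  have hcos : ∀ (g g' : G) (f : α → K), (g : G ⧸ P) = (g' : G ⧸ P) → ∑ i, f i = 0 →
      Φ g f = Φ g' f := by
    intro g g' f hgg hf
    obtain ⟨n, hn⟩ :=
      (isOfFinOrder_of_finite D.u).mem_powers_iff_mem_zpowers.mpr (QuotientGroup.eq.mp hgg)
    have hn' : D.u ^ n = g⁻¹ * g' := hn
    rw [show g' = g * D.u ^ n by rw [hn', mul_inv_cancel_left], hΦu g n f hf]
  let F : (α → K) →ₗ[K] V := ∑ q : G ⧸ P, Φ q.out
  have hequiv : ∀ (h : G) (f : α → K), ∑ i, f i = 0 →
      F (Cfsg.permRep K G α h f) = ρ h (F f) := by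
    intro h f hf
    simp only [F, LinearMap.sum_apply, map_sum]
    refine (Fintype.sum_equiv (MulAction.toPerm h) _ _ fun q => ?_).symm
    rw [MulAction.toPerm_apply,
      hcos (h • q).out (h * q.out) _ (by
        rw [QuotientGroup.out_eq']
        exact (congrArg (h • ·) (QuotientGroup.out_eq' q)).symm)
        (hRinv h f hf)]
    show ρ h (ρ q.out (β (Cfsg.permRep K G α q.out⁻¹ f))) =
      ρ (h * q.out) (β (Cfsg.permRep K G α (h * q.out)⁻¹ (Cfsg.permRep K G α h f)))
    rw [← Module.End.mul_apply (Cfsg.permRep K G α (h * q.out)⁻¹), ← map_mul, mul_inv_rev,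
      inv_mul_cancel_right, map_mul ρ, Module.End.mul_apply]
  refine ⟨F, hequiv, ?_⟩
  set f0 : α → K := Pi.single (D.pt 1) 1 - Pi.single (D.pt 0) 1 with hf0
  have hf0R : ∑ i, f0 i = 0 := by
    simp [hf0, Finset.sum_sub_distrib]
  refine ⟨f0, hf0R, ?_⟩
  let t : G ⧸ P → V ⧸ Y := fun q => Submodule.Quotient.mk (Φ q.out f0)
  -- the orbit of a coset
  have horb : ∀ g : G, ∑ i : ZMod p, t ((D.u ^ i.val * g : G) : G ⧸ P) = 0 := by
    intro g
    have e : ∀ i : ZMod p, t ((D.u ^ i.val * g : G) : G ⧸ P) =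
        Submodule.Quotient.mk (Φ g (Pi.single (D.pt (1 - i)) 1)) -
          Submodule.Quotient.mk (Φ g (Pi.single (D.pt (-i)) 1)) := by
      intro i
      have h1 : Φ ((D.u ^ i.val * g : G) : G ⧸ P).out f0 = Φ (D.u ^ i.val * g) f0 :=
        hcos _ _ _ (QuotientGroup.out_eq' _) hf0R
      have h2 : ∀ j, (D.u ^ i.val)⁻¹ • D.pt j = D.pt (j - i) := fun j => by
        rw [inv_smul_eq_iff, D.pow_smul, ZMod.natCast_zmod_val, sub_add_cancel]
      simp only [t, h1]
      show Submodule.Quotient.mk (ρ (D.u ^ i.val * g) (β (Cfsg.permRep K G α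
        (D.u ^ i.val * g)⁻¹ f0))) = _
      rw [map_mul ρ, Module.End.mul_apply, hmkU, mul_inv_rev, map_mul, Module.End.mul_apply, hf0,
        map_sub, Perm.permRep_single, Perm.permRep_single, h2, h2, zero_sub,
        ← Submodule.Quotient.mk_sub, ← map_sub]
      simp only [Φ, LinearMap.comp_apply]
    simp only [e, Finset.sum_sub_distrib, sub_eq_zero]
    exact Fintype.sum_equiv (Equiv.subRight (1 : ZMod p)) _ _ fun i => by
      rw [Equiv.subRight_apply, neg_sub]
  -- the fixed cosets
  let fixq : G ⧸ P → Prop := fun q => D.u • q = q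
  let π : G ⧸ P → orbitRel.Quotient P (G ⧸ P) := Quotient.mk _
  have : Fintype (orbitRel.Quotient P (G ⧸ P)) := Fintype.ofFinite _
  have hfree : ∑ q ∈ Finset.univ.filter (fun q => ¬ fixq q), t q = 0 := by
    rw [← Finset.sum_fiberwise _ π]
    refine Finset.sum_eq_zero fun ω _ => ?_
    by_cases hex : ∃ q₀, ¬ fixq q₀ ∧ π q₀ = ω
    swap
    · push Not at hex
      rw [Finset.filter_filter]
      refine Finset.sum_eq_zero fun q hq => absurd (Finset.mem_filter.mp hq).2.2
        (hex q (Finset.mem_filter.mp hq).2.1)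
    obtain ⟨q₀, hq₀, rfl⟩ := hex
    obtain ⟨g, rfl⟩ := QuotientGroup.mk_surjective q₀
    rw [← horb g]
    have hfixpow : ∀ (i j : ZMod p), D.u ^ i.val • (g : G ⧸ P) = D.u ^ j.val • (g : G ⧸ P) →
        i = j := by
      intro i j hij
      by_contra hne
      apply hq₀
      have hmem : D.u ^ (i - j).val ∈ stabilizer G (g : G ⧸ P) := by
        rw [mem_stabilizer_iff]
        have e : D.u ^ i.val = D.u ^ j.val * D.u ^ (i - j).val := by
          rw [← pow_add]; exact D.pow_eq_pow (by push_cast; simp)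
        rw [e, mul_smul] at hij
        exact smul_left_cancel _ hij
      have hne' : i - j ≠ 0 := sub_ne_zero.mpr hne
      have e2 : D.u = (D.u ^ (i - j).val) ^ ((i - j)⁻¹ : ZMod p).val := by
        conv_lhs => rw [← pow_one D.u]
        rw [← pow_mul]
        exact D.pow_eq_pow (by push_cast; simp [mul_inv_cancel₀ hne'])
      show D.u • (g : G ⧸ P) = g
      rw [← mem_stabilizer_iff, e2]
      exact pow_mem hmem _
    refine Finset.sum_bij' (fun q hq => ?_) (fun i _ => ((D.u ^ i.val * g : G) : G ⧸ P))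
      (fun q hq => Finset.mem_univ _) ?_ ?_ ?_ ?_
    · exact Classical.choose (show ∃ i : ZMod p, D.u ^ i.val • (g : G ⧸ P) = q by
        obtain ⟨⟨z, hz⟩, hzq⟩ := Quotient.exact (Finset.mem_filter.mp hq).2
        obtain ⟨n, rfl⟩ := (isOfFinOrder_of_finite D.u).mem_powers_iff_mem_zpowers.mpr hz
        refine ⟨(n : ZMod p), ?_⟩
        rw [D.pow_eq_pow (show (((n : ZMod p).val : ℕ) : ZMod p) = (n : ZMod p) by simp)]
        exact hzq)
    · intro i _
      rw [Finset.mem_filter, Finset.mem_filter]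
      refine ⟨⟨Finset.mem_univ _, fun hc => hq₀ ?_⟩, Quotient.sound
        ⟨⟨D.u ^ i.val, pow_mem (Subgroup.mem_zpowers _) _⟩, rfl⟩⟩
      show D.u • (g : G ⧸ P) = g
      have hc' : D.u • D.u ^ i.val • (g : G ⧸ P) = D.u ^ i.val • (g : G ⧸ P) := hc
      rw [← mul_smul, ← pow_succ', pow_succ, mul_smul] at hc'
      exact smul_left_cancel _ hc'
    · intro q hq
      exact Classical.choose_spec (p := fun i : ZMod p => D.u ^ i.val • (g : G ⧸ P) = q) _
    · intro i _
      apply hfixpow
      exact Classical.choose_spec (p := fun j : ZMod p =>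
        D.u ^ j.val • (g : G ⧸ P) = ((D.u ^ i.val * g : G) : G ⧸ P)) _
    · intro q hq
      congr 1
      exact (Classical.choose_spec (p := fun i : ZMod p => D.u ^ i.val • (g : G ⧸ P) = q) _).symm
  have hfixed : ∑ q ∈ Finset.univ.filter fixq, t q =
      (Fintype.card D.E : K) • Submodule.Quotient.mk v := by
    have hval : ∀ x : D.E, t ((x : G) : G ⧸ P) = Submodule.Quotient.mk v := by
      intro x
      have h1 : Φ ((x : G) : G ⧸ P).out f0 = Φ (x : G) f0 :=
        hcos _ _ _ (QuotientGroup.out_eq' _) hf0R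
      simp only [t, h1]
      show Submodule.Quotient.mk (ρ (x : G) (β (Cfsg.permRep K G α (x : G)⁻¹ f0))) = _
      rw [hf0, map_sub, Perm.permRep_single, Perm.permRep_single, map_sub,
        ← Subgroup.coe_inv, D.E_smul, D.E_smul, mul_one, mul_zero]
      have hβs : ∀ j : ZMod p, β (Pi.single (D.pt j) 1) = S j := fun j => by
        show ∑ i, (Pi.single (D.pt j) (1 : K) : α → K) (D.pt i) • S i = S j
        rw [Finset.sum_eq_single j (fun i _ hi => by
          rw [Pi.single_eq_of_ne (fun e => hi (D.pt.injective e)), zero_smul])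
          (fun h => absurd (Finset.mem_univ j) h), Pi.single_eq_same, one_smul]
      rw [hβs, hβs, hS0, sub_zero]
      obtain ⟨z, hz⟩ := (Submodule.Quotient.eq Y).mp (show Submodule.Quotient.mk (S (D.s x⁻¹ : ZMod p))
        = Submodule.Quotient.mk (p := Y) (((D.s x⁻¹ : ZMod p).val : K) • v) by
          rw [hSmk, Submodule.Quotient.mk_smul])
      rw [show S (D.s x⁻¹ : ZMod p) =
        ((D.s x⁻¹ : ZMod p).val : K) • v + (ρ D.u - 1) z by rw [hz]; abel]
      have hxv : ρ (x : G) v = (D.sK K x).val • v := (mem_wspace (D.card_E_ne)).mp hv x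
      rw [map_add, map_smul, hxv, D.sK_cast, map_inv, smul_smul, Units.inv_mul, one_smul,
        Submodule.Quotient.mk_add, LinearMap.sub_apply, map_sub, Module.End.one_apply,
        ← Module.End.mul_apply (ρ (x : G)), ← pow_one D.u, rho_pow_shift, Module.End.mul_apply,
        Submodule.Quotient.mk_sub, hmkU, sub_self, add_zero]
    rw [Nat.cast_smul_eq_nsmul, ← Finset.card_univ (α := D.E), ← Finset.sum_const]
    refine (Finset.sum_bij (fun (x : D.E) _ => ((x : G) : G ⧸ P)) ?_ ?_ ?_
      (fun x _ => (hval x).symm)).symm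
    · intro x _
      rw [Finset.mem_filter]
      refine ⟨Finset.mem_univ _, ?_⟩
      show ((D.u * (x : G) : G) : G ⧸ P) = ((x : G) : G ⧸ P)
      rw [QuotientGroup.eq]
      have h := D.conj_pow x⁻¹ 1
      rw [pow_one, Nat.cast_one, mul_one, Subgroup.coe_inv, inv_inv] at h
      rw [mul_inv_rev, show (x : G)⁻¹ * D.u⁻¹ * (x : G) = ((x : G)⁻¹ * D.u * (x : G))⁻¹ by group,
        h]
      exact inv_mem (pow_mem (Subgroup.mem_zpowers _) _)
    · intro x _ y _ hxy
      obtain ⟨n, hn⟩ :=
        (isOfFinOrder_of_finite D.u).mem_powers_iff_mem_zpowers.mpr (QuotientGroup.eq.mp hxy)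
      have hn' : D.u ^ n = (x : G)⁻¹ * (y : G) := hn
      have h3 := congrArg (fun g : G => g • D.pt 0) hn'
      simp only [mul_smul, D.pow_smul, ← Subgroup.coe_inv, D.E_smul, mul_zero, zero_add,
        D.pt.injective.eq_iff] at h3
      rw [D.pow_eq_pow (show (n : ZMod p) = ((0 : ℕ) : ZMod p) by rw [h3, Nat.cast_zero]),
        pow_zero, eq_comm, inv_mul_eq_one] at hn'
      exact Subtype.ext hn'
    · intro q hq
      obtain ⟨g, rfl⟩ := QuotientGroup.mk_surjective q
      have hfix : ((D.u * g : G) : G ⧸ P) = (g : G ⧸ P) := (Finset.mem_filter.mp hq).2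
      have hmem : g⁻¹ * D.u * g ∈ P := by
        have := inv_mem (QuotientGroup.eq.mp hfix)
        simpa [mul_assoc] using this
      have hle : P.map (MulAut.conj g⁻¹).toMonoidHom ≤ P := by
        rw [hP, MonoidHom.map_zpowers, Subgroup.zpowers_le]
        simpa [hP] using hmem
      have heq : P.map (MulAut.conj g⁻¹).toMonoidHom = P :=
        Subgroup.eq_of_le_of_card_ge hle (le_of_eq
          (Subgroup.card_map_of_injective (MulAut.conj g⁻¹).injective).symm)
      have hgN : g ∈ Subgroup.normalizer (P : Set G) := by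
        rw [← inv_mem_iff, Subgroup.mem_normalizer_iff]
        intro z
        conv_rhs => rw [← heq]
        rw [Subgroup.mem_map_equiv]
        simp [mul_assoc]
      obtain ⟨x, i, rfl⟩ := D.decomp g hgN
      refine ⟨x, Finset.mem_univ _, ?_⟩
      show ((x : G) : G ⧸ P) = _
      rw [QuotientGroup.eq, inv_mul_cancel_left]
      exact pow_mem (Subgroup.mem_zpowers _) i
  intro hF
  have hsum : ∑ q, t q = 0 := by
    have := congrArg (Submodule.Quotient.mk (p := Y)) hF
    simp only [F, LinearMap.sum_apply] at this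
    rw [← Submodule.mkQ_apply, map_sum, Submodule.Quotient.mk_zero] at this
    simpa only [t, Submodule.mkQ_apply] using this
  rw [← Finset.sum_filter_add_sum_filter_not Finset.univ fixq, hfree, hfixed, add_zero] at hsum
  rcases smul_eq_zero.mp hsum with h | h
  · exact D.card_E_ne h
  · exact hvr ((Submodule.Quotient.mk_eq_zero Y).mp h)

end Data

end Cfsg.Agent.PrimeDeg7
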